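import Mathlib
import Cfsg.Agent.Lib.Helper18.BTDefs

/-!
# S2154 piece BT-ADD (helper19): the entries of `x_r(t) - 1` and real admissible levels.
Real copy of helper6's `xMat_sub_one_entry` / `x_sub_one_entry` (`ChevLGrade.lean`).
-/

set_option autoImplicit false
set_option linter.unusedSectionVars false
set_option linter.unusedVariables false

namespace Cfsg.Agent.Helper18.BT

open Cfsg Cfsg.Lie Cfsg.Agent.Lead.Chev Cfsg.Agent.Helper6.ChevL

/-- additive real weights on the roots -/
structure bt_add_AddWR (D : ChevalleyDatum) (ω : ℕ → ℝ) : Prop where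
  neg : ∀ r < D.nroots, ω (D.negIdx.getD r 0) = - ω r
  chain : ∀ r < D.nroots, ∀ e ∈ (D.chain.getD r #[]).toList, ∀ q ∈ e.2.toList.zipIdx,
    ω q.1.1 = ((q.2 : ℝ) + 1) * ω r + ω e.1

/-- the non-zero entries of `x_r(t) - 1` raise a real additive level by a positive multiple of
`ω r` -/
theorem bt_add_xMat_entry {F : Type*} [Field F] (D : ChevalleyDatum) (ω : ℕ → ℝ)
    (hω : bt_add_AddWR D ω) (r : Fin D.nroots) (t : F)
    (a b : D.Idx) (h : (D.xMat F r t - 1) a b ≠ 0) :
    ∃ k : ℕ, 1 ≤ k ∧ LvR D ω a = LvR D ω b + k * ω r.val := by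
  rw [Matrix.sub_apply] at h
  rcases b with i | s
  · rcases a with i' | u
    · exfalso
      apply h
      simp [ChevalleyDatum.xMat, Matrix.one_apply]
    · by_cases hur : u = r
      · subst hur
        exact ⟨1, le_rfl, by simp [LvR]⟩
      · exfalso
        apply h
        simp [ChevalleyDatum.xMat, Matrix.one_apply, hur]
  · by_cases hsr : s = r
    · exfalso
      apply h
      rcases a with i' | u
      · simp [ChevalleyDatum.xMat, Matrix.one_apply, hsr]
      · simp [ChevalleyDatum.xMat, Matrix.one_apply, hsr]
    · by_cases hneg : s.val = D.negIdx.getD r.val 0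
      · have hωs : ω s.val = - ω r.val := by rw [hneg]; exact hω.neg r.val r.2
        rcases a with i' | u
        · exact ⟨1, le_rfl, by simp [LvR, hωs]⟩
        · by_cases hus : u = s
          · exfalso
            apply h
            simp [ChevalleyDatum.xMat, Matrix.one_apply, hsr, hneg, hus]
          · by_cases hur : u = r
            · subst hur
              refine ⟨2, by norm_num, ?_⟩
              simp only [LvR, Sum.elim_inr, hωs]
              push_cast
              ring
            · exfalso
              apply h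
              simp [ChevalleyDatum.xMat, Matrix.one_apply, hsr, hneg, hus, hur]
      · rcases a with i' | u
        · exfalso
          apply h
          simp only [ChevalleyDatum.xMat, Matrix.of_apply, hsr, hneg, if_false, Matrix.one_apply]
          simp
        · have hne : D.chainCoeff r.val s.val u.val ≠ [] := by
            intro hnil
            apply h
            simp only [ChevalleyDatum.xMat, Matrix.of_apply, hsr, hneg, if_false, hnil, List.map_nil,
              List.sum_nil, add_zero, Matrix.one_apply, Sum.inr.injEq]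
            simp
          obtain ⟨km, hkm⟩ := List.exists_mem_of_ne_nil _ hne
          obtain ⟨e, he, hes, q, hq, hqu, -⟩ := chainCoeff_mem' D _ _ _ km hkm
          have := hω.chain r.val r.2 e he q hq
          rw [hqu, hes] at this
          refine ⟨q.2 + 1, by omega, ?_⟩
          simp only [LvR, Sum.elim_inr, this]
          push_cast
          ring

variable {F : Type*} [Field F] {D : ChevalleyDatum} (hF : ChevFacts D F) (hL : LvlFacts D)

include hF hL in
/-- a real combination of the rows of Cartan integers is additive -/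
theorem bt_add_addWR_of_mu (mu : Fin D.rank → ℝ) :
    bt_add_AddWR D (fun s => ∑ j : Fin D.rank, mu j * (D.cartan j.val s : ℝ)) := by
  constructor
  · intro r hr
    show ∑ j : Fin D.rank, mu j * (D.cartan j.val (D.negIdx.getD r 0) : ℝ) =
      - ∑ j : Fin D.rank, mu j * (D.cartan j.val r : ℝ)
    rw [← Finset.sum_neg_distrib]
    apply Finset.sum_congr rfl
    intro j _
    have h1 : D.negIdx.getD r 0 = D.neg r := rfl
    rw [h1, hF.cartan_neg j.val j.2 r hr]
    push_cast
    ring
  · intro r hr e he q hq
    show ∑ j : Fin D.rank, mu j * (D.cartan j.val q.1.1 : ℝ) =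
      ((q.2 : ℝ) + 1) * ∑ j : Fin D.rank, mu j * (D.cartan j.val r : ℝ) +
        ∑ j : Fin D.rank, mu j * (D.cartan j.val e.1 : ℝ)
    rw [Finset.mul_sum, ← Finset.sum_add_distrib]
    apply Finset.sum_congr rfl
    intro j _
    rw [hL.add r hr e he q hq j.val j.2]
    push_cast
    ring

include hF hL in
theorem x_entry_real (L : ℕ → ℝ) (hLv : IsLvl D L) (r : ℕ) (hr : r < D.nroots) (t : F) (a b : D.Idx)
    (h : (D.x F r t - 1) a b ≠ 0) : ∃ k : ℕ, 1 ≤ k ∧ LvR D L a = LvR D L b + k * L r := by
  obtain ⟨mu, hmu⟩ := hLv
  set L' : ℕ → ℝ := fun s => ∑ j : Fin D.rank, mu j * (D.cartan j.val s : ℝ) with hL'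
  have hLL' : ∀ c : D.Idx, LvR D L c = LvR D L' c := by
    intro c
    rcases c with i | s
    · rfl
    · exact hmu s.val s.2
  unfold ChevalleyDatum.x at h
  rw [dif_pos hr] at h
  obtain ⟨k, hk, e⟩ := bt_add_xMat_entry D L' (bt_add_addWR_of_mu hF hL mu) ⟨r, hr⟩ t a b h
  refine ⟨k, hk, ?_⟩
  rw [hLL' a, hLL' b, e, hmu r hr]

end Cfsg.Agent.Helper18.BT
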