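import Mathlib
import Cfsg.Agent.Lib.Helper18.BTDefs

/-!
# S2154 (Borel–Tits), piece BT-POS (helper2 for helper18): sign facts of the levels `Lof D lam`.
-/

set_option autoImplicit false
set_option linter.unusedSectionVars false
set_option linter.unusedVariables false

namespace Cfsg.Agent.Helper18.BT

open Cfsg Cfsg.Lie Cfsg.Agent.Lead.Chev Cfsg.Agent.Helper6.ChevL

variable {F : Type*} [Field F] {D : ChevalleyDatum} (hF : ChevFacts D F) (hL : LvlFacts D)

/-- PIECE BT-POS [L1] (1/6). -/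
theorem isLvl_Lof (lam : Fin D.rank → ℝ) : IsLvl D (Lof D lam) := by
  refine ⟨fun j => ∑ k : Fin D.rank, lam k * (bOf D j.val k.val : ℝ), ?_⟩
  intro s _
  unfold Lof rch
  simp only [Finset.sum_mul]
  rw [Finset.sum_comm]
  apply Finset.sum_congr rfl
  intro k _
  push_cast
  rw [Finset.mul_sum, ← Fin.sum_univ_eq_sum_range (fun j => lam k * ((bOf D j k.val : ℝ) * (D.cartan j s : ℝ)))]
  apply Finset.sum_congr rfl
  intro j _
  ring

include hL in
/-- the terms of `Lof` are non-negative on a positive root -/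
theorem bt_pos_rch_nonneg (r : ℕ) (hr : D.IsPosRoot r) (k : ℕ) (hk : k < D.rank) :
    0 ≤ rch D r k := by
  rcases (cc_nonneg D r hr k).lt_or_eq with h1 | h1
  · exact (hL.pos r hr.1 k hk h1).le
  · exact (hL.zero r hr.1 k hk h1.symm).ge

include hL in
/-- PIECE BT-POS (2/6): `cc_nonneg`, `hL.zero`, `hL.pos`. -/
theorem Lof_nonneg (lam : Fin D.rank → ℝ) (hlam : ∀ k, 0 ≤ lam k) (r : ℕ) (hr : D.IsPosRoot r) :
    0 ≤ Lof D lam r := by
  unfold Lof
  apply Finset.sum_nonneg
  intro k _
  exact mul_nonneg (hlam k) (by exact_mod_cast bt_pos_rch_nonneg hL r hr k.val k.isLt)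

include hF in
/-- PIECE BT-POS (3/6). -/
theorem Lof_neg (lam : Fin D.rank → ℝ) (r : ℕ) (hr : r < D.nroots) : Lof D lam (D.neg r) = - Lof D lam r := by
  unfold Lof
  rw [← Finset.sum_neg_distrib]
  apply Finset.sum_congr rfl
  intro k _
  have h : rch D (D.neg r) k.val = - rch D r k.val := by
    unfold rch
    rw [← Finset.sum_neg_distrib]
    apply Finset.sum_congr rfl
    intro j hj
    rw [hF.cartan_neg j (Finset.mem_range.1 hj) r hr]
    ring
  rw [h]
  push_cast
  ring

include hF hL in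
/-- PIECE BT-POS (4/6): `hF.refl.simple_coroot`. -/
theorem Lof_simple (lam : Fin D.rank → ℝ) (k : Fin D.rank) :
    0 < rch D (D.simple k.val) k.val ∧
      Lof D lam (D.simple k.val) = lam k * (rch D (D.simple k.val) k.val : ℝ) := by
  have hlt : D.simple k.val < D.nroots := hF.simple_lt k.val k.isLt
  have hcc : ∀ k' < D.rank, cc D (D.simple k.val) k' = if k' = k.val then 1 else 0 :=
    fun k' hk' => hF.refl.simple_coroot k.val k.isLt k' hk'
  constructor
  · apply hL.pos _ hlt k.val k.isLt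
    rw [hcc k.val k.isLt, if_pos rfl]
    exact one_pos
  · unfold Lof
    apply Finset.sum_eq_single k
    · intro k' _ hne
      have hne' : k'.val ≠ k.val := fun h => hne (Fin.ext h)
      have h0 : rch D (D.simple k.val) k'.val = 0 := by
        apply hL.zero _ hlt k'.val k'.isLt
        rw [hcc k'.val k'.isLt, if_neg hne']
      rw [h0]
      simp
    · intro h
      exact absurd (Finset.mem_univ k) h

include hF hL in
/-- PIECE BT-POS (5/6): the level vanishes on `Φ_J` and is positive on the roots of `U_J`, `J = Jof lam`. -/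
theorem Lof_J (lam : Fin D.rank → ℝ) (hlam : ∀ k, 0 ≤ lam k) (r : ℕ) :
    (D.InRootSub (Jof D lam) r → Lof D lam r = 0) ∧
      (D.IsPosRoot r → ¬ D.InRootSub (Jof D lam) r → 0 < Lof D lam r) := by
  constructor
  · intro h
    unfold Lof
    apply Finset.sum_eq_zero
    intro k _
    by_cases hk : lam k = 0
    · rw [hk, zero_mul]
    · have hkJ : k.val ∉ Jof D lam := by
        rintro ⟨h', e⟩
        exact hk e
      have h0 : rch D r k.val = 0 := hL.zero r h.1 k.val k.isLt (h.2 k.val k.isLt hkJ)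
      rw [h0]
      simp
  · intro hr hnot
    obtain ⟨i, hi, hiJ, hne⟩ := (not_inRootSub_iff (Jof D lam) r hr.1).1 hnot
    unfold Lof
    apply Finset.sum_pos'
    · intro k _
      exact mul_nonneg (hlam k) (by exact_mod_cast bt_pos_rch_nonneg hL r hr k.val k.isLt)
    · refine ⟨⟨i, hi⟩, Finset.mem_univ _, ?_⟩
      have hlam_pos : 0 < lam ⟨i, hi⟩ := by
        rcases (hlam ⟨i, hi⟩).lt_or_eq with h1 | h1
        · exact h1
        · exact absurd ⟨hi, h1.symm⟩ hiJ
      have hcc : 0 < cc D r i := lt_of_le_of_ne (cc_nonneg D r hr i) (Ne.symm hne)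
      have hrch : 0 < rch D r i := hL.pos r hr.1 i hi hcc
      exact mul_pos hlam_pos (by exact_mod_cast hrch)

omit F in
/-- a sum of non-negative integers with a positive term is at least `1` (over `ℝ`) -/
theorem bt_pos_aux (n : ℕ) (g : ℕ → ℤ) (i : ℕ) (hi : i < n) (hpos : 0 < g i)
    (hnn : ∀ k : Fin n, 0 ≤ g k.val) : (1 : ℝ) ≤ ∑ k : Fin n, (g k.val : ℝ) := by
  have h1 : (1 : ℝ) ≤ (g i : ℝ) := by
    have h2 : (1 : ℤ) ≤ g i := hpos
    exact_mod_cast h2
  have h3 : (g i : ℝ) ≤ ∑ k : Fin n, (g k.val : ℝ) := by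
    have hnn' : ∀ k ∈ (Finset.univ : Finset (Fin n)), (0 : ℝ) ≤ (g k.val : ℝ) := by
      intro k _
      exact_mod_cast hnn k
    exact Finset.single_le_sum (f := fun k : Fin n => (g k.val : ℝ)) hnn'
      (Finset.mem_univ (⟨i, hi⟩ : Fin n))
  exact le_trans h1 h3

include hF hL in
/-- PIECE BT-POS (6/6): the height level is at least `1` on the positive roots.
(`hP : ParFacts D` and `hF` are needed: a positive root has a non-zero coroot coefficient.) -/
theorem one_le_Lof_one (hP : ParFacts D) (r : ℕ) (hr : D.IsPosRoot r) :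
    1 ≤ Lof D (fun _ => 1) r := by
  -- some coefficient of the coroot is positive
  have hex : ∃ i, ∃ hi : i < D.rank, 0 < cc D r i := by
    rcases hP.desc r hr with ⟨j, hj, rfl⟩ | ⟨j, hj, hne, -⟩
    · refine ⟨j, hj, ?_⟩
      have : cc D (D.simple j) j = if j = j then 1 else 0 := hF.refl.simple_coroot j hj j hj
      rw [this, if_pos rfl]
      exact one_pos
    · exact ⟨j, hj, lt_of_le_of_ne (cc_nonneg D r hr j) (Ne.symm hne)⟩
  obtain ⟨i, hi, hcc⟩ := hex
  have hrch : 0 < rch D r i := hL.pos r hr.1 i hi hcc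
  have hnn : ∀ k : Fin D.rank, 0 ≤ rch D r k.val :=
    fun k => bt_pos_rch_nonneg hL r hr k.val k.isLt
  have hsum : Lof D (fun _ => 1) r = ∑ k : Fin D.rank, (rch D r k.val : ℝ) := by
    unfold Lof
    apply Finset.sum_congr rfl
    intro k _
    rw [one_mul]
  rw [hsum]
  -- make `rch D r` opaque
  obtain ⟨g, hg⟩ : ∃ g : ℕ → ℤ, g = rch D r := ⟨_, rfl⟩
  rw [← hg] at hrch hnn ⊢
  exact bt_pos_aux D.rank g i hi hrch hnn

end Cfsg.Agent.Helper18.BT
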