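import Mathlib
import Cfsg.Agent.Lib.Helper18.BTDefs
import Cfsg.Agent.Lib.Lead.ChevFactsAll
import Cfsg.Agent.Lib.Lead.ChevDiagGroup
import Cfsg.Agent.Lib.BT.BTADD
import Cfsg.Agent.Lib.BT.BTPOS

/-!
# BT-BOREL (S2154): `B` preserves the filtration of a dominant level (helper4)
-/

set_option autoImplicit false
set_option linter.unusedSectionVars false
set_option linter.unusedVariables false

namespace Cfsg.Agent.Helper18.BT

open Cfsg Cfsg.Lie Cfsg.Agent.Lead.Chev Cfsg.Agent.Helper6.ChevL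

section abstract

variable {ι : Type*} [Fintype ι] [DecidableEq ι] {K : Type*} [Field K]

/-- local copy of `sh_mul` with `c = c' = 0` -/
theorem bt_borel_sh_mul {l : ι → ℝ} {A B : Matrix ι ι K} (hA : Sh l l 0 A) (hB : Sh l l 0 B) :
    Sh l l 0 (A * B) := by
  intro a b hab
  rw [Matrix.mul_apply] at hab
  obtain ⟨c, _, hc⟩ := Finset.exists_ne_zero_of_sum_ne_zero hab
  have h1 : A a c ≠ 0 := left_ne_zero_of_mul hc
  have h2 : B c b ≠ 0 := right_ne_zero_of_mul hc
  have := hA a c h1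
  have := hB c b h2
  linarith

theorem bt_borel_sh_one (l : ι → ℝ) : Sh l l 0 (1 : Matrix ι ι K) := by
  intro a b hab
  by_cases h : a = b
  · subst h; linarith
  · exact absurd (Matrix.one_apply_ne h) hab

theorem bt_borel_sh_of_sub_one {l : ι → ℝ} {A : Matrix ι ι K} (hA : Sh l l 0 (A - 1)) :
    Sh l l 0 A := by
  intro a b hab
  by_cases h : a = b
  · subst h; linarith
  · apply hA a b
    rw [Matrix.sub_apply, Matrix.one_apply_ne h, sub_zero]
    exact hab

theorem bt_borel_sh_diagonal (l : ι → ℝ) (d : ι → K) : Sh l l 0 (Matrix.diagonal d) := by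
  intro a b hab
  by_cases h : a = b
  · subst h; linarith
  · exact absurd (Matrix.diagonal_apply_ne d h) hab

/-- the subgroup of the invertible matrices which, together with their inverses, preserve the
filtration -/
def bt_borel_stab (l : ι → ℝ) : Subgroup (GL ι K) where
  carrier := {x | Sh l l 0 (x : Matrix ι ι K) ∧ Sh l l 0 ((x⁻¹ : GL ι K) : Matrix ι ι K)}
  mul_mem' := by
    intro x y hx hy
    refine ⟨?_, ?_⟩
    · rw [Units.val_mul]; exact bt_borel_sh_mul hx.1 hy.1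
    · rw [mul_inv_rev, Units.val_mul]; exact bt_borel_sh_mul hy.2 hx.2
  one_mem' := by
    refine ⟨?_, ?_⟩
    · rw [Units.val_one]; exact bt_borel_sh_one l
    · rw [inv_one, Units.val_one]; exact bt_borel_sh_one l
  inv_mem' := by
    intro x hx
    refine ⟨hx.2, ?_⟩
    rw [inv_inv]; exact hx.1

theorem bt_borel_mem_stab {l : ι → ℝ} {x : GL ι K} :
    x ∈ bt_borel_stab (K := K) l ↔
      Sh l l 0 (x : Matrix ι ι K) ∧ Sh l l 0 ((x⁻¹ : GL ι K) : Matrix ι ι K) := Iff.rfl

end abstract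

variable {F : Type*} [Field F] {D : ChevalleyDatum} (hF : ChevFacts D F) (hL : LvlFacts D)

include hF hL in
theorem bt_borel_x_sh (lam : Fin D.rank → ℝ) (hlam : ∀ k, 0 ≤ lam k) (r : ℕ) (hr : D.IsPosRoot r)
    (t : F) : Sh (LvR D (Lof D lam)) (LvR D (Lof D lam)) 0 (D.x F r t) := by
  apply bt_borel_sh_of_sub_one
  intro a b hab
  obtain ⟨k, hk1, hk⟩ := x_entry_real hF hL (Lof D lam) (isLvl_Lof lam) r hr.1 t a b hab
  have h0 : 0 ≤ Lof D lam r := Lof_nonneg hL lam hlam r hr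
  have hk0 : (0 : ℝ) ≤ (k : ℝ) := Nat.cast_nonneg k
  rw [hk]
  have : 0 ≤ (k : ℝ) * Lof D lam r := mul_nonneg hk0 h0
  linarith

include hF hL in
/-- PIECE BT-BOREL [L2, uses x_entry_real, isLvl_Lof, Lof_nonneg]: `B` preserves the filtration of a
dominant level. -/
theorem borel_sh (lam : Fin D.rank → ℝ) (hlam : ∀ k, 0 ≤ lam k) (b : GL D.Idx F)
    (hb : b ∈ D.borelSubgroup F) :
    Sh (LvR D (Lof D lam)) (LvR D (Lof D lam)) 0 (b : Matrix D.Idx D.Idx F) := by
  classical
  have hU : D.posUnipotent F ≤ bt_borel_stab (K := F) (LvR D (Lof D lam)) := by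
    unfold ChevalleyDatum.posUnipotent
    rw [Subgroup.closure_le]
    rintro g ⟨r, t, hr, hg⟩
    have hinv : ((g⁻¹ : GL D.Idx F) : Matrix D.Idx D.Idx F) = D.x F r (-t) := by
      have h1 : (g : Matrix D.Idx D.Idx F) * D.x F r (-t) = 1 := by
        rw [hg, hF.xadd.add r hr.1, add_neg_cancel, hF.xadd.zero r hr.1]
      have h2 : ((g⁻¹ : GL D.Idx F) : Matrix D.Idx D.Idx F) * (g : Matrix D.Idx D.Idx F) = 1 := by
        rw [← Units.val_mul, inv_mul_cancel, Units.val_one]
      calc ((g⁻¹ : GL D.Idx F) : Matrix D.Idx D.Idx F)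
          = ((g⁻¹ : GL D.Idx F) : Matrix D.Idx D.Idx F) * ((g : Matrix D.Idx D.Idx F) * D.x F r (-t)) := by
            rw [h1, mul_one]
        _ = D.x F r (-t) := by rw [← mul_assoc, h2, one_mul]
    refine bt_borel_mem_stab.2 ⟨?_, ?_⟩
    · rw [hg]; exact bt_borel_x_sh hF hL lam hlam r hr t
    · rw [hinv]; exact bt_borel_x_sh hF hL lam hlam r hr (-t)
  have hH : D.diagonalSubgroup F ≤ bt_borel_stab (K := F) (LvR D (Lof D lam)) := by
    intro g hg
    have hd : ∀ g' ∈ D.diagonalSubgroup F,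
        Sh (LvR D (Lof D lam)) (LvR D (Lof D lam)) 0 (g' : Matrix D.Idx D.Idx F) := by
      intro g' hg'
      obtain ⟨c, _, hc⟩ := exists_Tmat_of_mem D hF.hall g' hg'
      rw [hc]
      exact bt_borel_sh_diagonal _ _
    exact bt_borel_mem_stab.2 ⟨hd g hg, hd g⁻¹ (Subgroup.inv_mem _ hg)⟩
  have hB : D.borelSubgroup F ≤ bt_borel_stab (K := F) (LvR D (Lof D lam)) := by
    unfold ChevalleyDatum.borelSubgroup
    exact sup_le hU hH
  exact (bt_borel_mem_stab.1 (hB hb)).1

end Cfsg.Agent.Helper18.BT
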