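import Mathlib
import Cfsg.Agent.Lib.Helper18.BTDefs

/-!
# S2154 piece BT-CLOSED: the feasible parameters form a closed set; continuity of the norm
-/

set_option autoImplicit false
set_option linter.unusedSectionVars false
set_option linter.unusedVariables false

namespace Cfsg.Agent.Helper18.BT

open Cfsg Cfsg.Lie Cfsg.Agent.Lead.Chev Cfsg.Agent.Helper6.ChevL

variable {F : Type*} [Field F] {D : ChevalleyDatum}

theorem bt_closed_cont (a : D.Idx) : Continuous fun lam : Fin D.rank → ℝ => LvR D (Lof D lam) a := by
  rcases a with i | s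
  · simp only [LvR, Sum.elim_inl]; exact continuous_const
  · simp only [LvR, Sum.elim_inr]
    unfold Lof
    fun_prop

theorem isClosed_feasible [Fintype F] (R : Subgroup (GL D.Idx F)) :
    IsClosed {lam : Fin D.rank → ℝ | (∀ k, 0 ≤ lam k) ∧ ∃ g ∈ D.group F, Feas D R g (Lof D lam)} := by
  classical
  have h1 : IsClosed {lam : Fin D.rank → ℝ | ∀ k, 0 ≤ lam k} := by
    simp only [Set.ofPred_forall]
    exact isClosed_iInter fun k => isClosed_le continuous_const (continuous_apply k)
  have h2 : ∀ g : GL D.Idx F, IsClosed {lam : Fin D.rank → ℝ | Feas D R g (Lof D lam)} := by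
    intro g
    unfold Feas Sh
    simp only [Set.ofPred_forall]
    refine isClosed_iInter fun x => isClosed_iInter fun hx => isClosed_iInter fun a =>
      isClosed_iInter fun b => isClosed_iInter fun hne => ?_
    exact isClosed_le ((bt_closed_cont b).add continuous_const) (bt_closed_cont a)
  have hfin : Finite (GL D.Idx F) := inferInstance
  have h3 : {lam : Fin D.rank → ℝ | (∀ k, 0 ≤ lam k) ∧ ∃ g ∈ D.group F, Feas D R g (Lof D lam)} =
      {lam : Fin D.rank → ℝ | ∀ k, 0 ≤ lam k} ∩
        ⋃ g ∈ ((D.group F : Subgroup (GL D.Idx F)) : Set (GL D.Idx F)),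
          {lam : Fin D.rank → ℝ | Feas D R g (Lof D lam)} := by
    ext lam
    simp
  rw [h3]
  exact h1.inter (Set.Finite.isClosed_biUnion (Set.toFinite _) fun g _ => h2 g)

theorem continuous_nrm_Lof : Continuous fun lam : Fin D.rank → ℝ => nrm D (Lof D lam) := by
  unfold nrm Lof
  fun_prop

end Cfsg.Agent.Helper18.BT
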