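import Mathlib
import Cfsg.Agent.Lib.Helper18.BTDefs
import Cfsg.Agent.Lib.BT.BTPOS

/-!
# S2154 (Borel–Tits), PIECE BT-COERC (helper24): the norm dominates the squares of the coordinates
-/

set_option autoImplicit false
set_option linter.unusedSectionVars false
set_option linter.unusedVariables false

namespace Cfsg.Agent.Helper18.BT

open Cfsg Cfsg.Lie Cfsg.Agent.Lead.Chev Cfsg.Agent.Helper6.ChevL

variable {F : Type*} [Field F] {D : ChevalleyDatum} (hF : ChevFacts D F) (hL : LvlFacts D)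

include hF hL in
/-- PIECE BT-COERC [L2, uses Lof_simple]: `nrm ≥ (Lof lam (simple k))² = (lam k · rch(p_k,k))² ≥ (lam k)²`
(`Lof_simple`, `hF.simple_lt`). -/
theorem sq_le_nrm (lam : Fin D.rank → ℝ) (k : Fin D.rank) : (lam k) ^ 2 ≤ nrm D (Lof D lam) := by
  obtain ⟨hpos, hLof⟩ := Lof_simple hF hL lam k
  have hlt : D.simple k.val < D.nroots := hF.simple_lt k.val k.isLt
  have h1 : (Lof D lam (D.simple k.val)) ^ 2 ≤ nrm D (Lof D lam) := by
    unfold nrm
    exact Finset.single_le_sum (f := fun s => (Lof D lam s) ^ 2) (fun s _ => sq_nonneg _)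
      (Finset.mem_range.mpr hlt)
  have h2 : (1 : ℝ) ≤ (rch D (D.simple k.val) k.val : ℝ) := by
    have : (1 : ℤ) ≤ rch D (D.simple k.val) k.val := hpos
    exact_mod_cast this
  have h3 : (lam k) ^ 2 ≤ (lam k * (rch D (D.simple k.val) k.val : ℝ)) ^ 2 := by
    rw [mul_pow]
    have h4 : (1 : ℝ) ≤ ((rch D (D.simple k.val) k.val : ℝ)) ^ 2 := by nlinarith
    have h5 : 0 ≤ (lam k) ^ 2 := sq_nonneg _
    nlinarith
  rw [hLof] at h1
  exact le_trans h3 h1

end Cfsg.Agent.Helper18.BT
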