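import Mathlib
import Cfsg.Agent.Lib.Helper18.BTDefs
import Cfsg.Agent.Lib.Lead.ChevBruhat

/-!
# S2154 piece BT-DOM (helper1): every admissible level has a dominant Weyl conjugate.
-/

set_option autoImplicit false
set_option linter.unusedSectionVars false
set_option linter.unusedVariables false

namespace Cfsg.Agent.Helper18.BT

open Cfsg Cfsg.Lie Cfsg.Agent.Lead.Chev Cfsg.Agent.Helper6.ChevL

variable {F : Type*} [Field F] {D : ChevalleyDatum} (hF : ChevFacts D F)

open Classical in
/-- the positive roots on which the `w`-conjugate of the level is negative -/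
noncomputable def bt_dom_bad (D : ChevalleyDatum) (L : ℕ → ℝ) (w : List ℕ) : Finset ℕ :=
  (Finset.range D.nroots).filter fun r => D.IsPosRoot r ∧ L (reflWord D w r) < 0

theorem bt_dom_mem_bad (D : ChevalleyDatum) (L : ℕ → ℝ) (w : List ℕ) (r : ℕ) :
    r ∈ bt_dom_bad D L w ↔ D.IsPosRoot r ∧ L (reflWord D w r) < 0 := by
  unfold bt_dom_bad
  rw [Finset.mem_filter, Finset.mem_range]
  exact ⟨fun h => h.2, fun h => ⟨h.1.1, h⟩⟩

include hF in
theorem bt_dom_neg (L : ℕ → ℝ) (hLv : IsLvl D L) (s : ℕ) (hs : s < D.nroots) :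
    L (D.neg s) = - L s := by
  obtain ⟨mu, hmu⟩ := hLv
  rw [hmu _ (hF.sign.neg_lt s hs), hmu s hs, ← Finset.sum_neg_distrib]
  refine Finset.sum_congr rfl fun j _ => ?_
  rw [hF.cartan_neg j.val j.isLt s hs]
  push_cast
  ring

include hF in
theorem bt_dom_card_lt (L : ℕ → ℝ) (hLv : IsLvl D L) (w : List ℕ) (hw : ∀ i ∈ w, i < D.rank)
    (p : ℕ) (hp : p < D.rank) (hneg : L (reflWord D w (D.simple p)) < 0) :
    (bt_dom_bad D L (w ++ [p])).card < (bt_dom_bad D L w).card := by
  have hfa := hF.facts p hp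
  have hsub : (bt_dom_bad D L (w ++ [p])).image (D.reflectRoot p) ⊆
      (bt_dom_bad D L w).erase (D.simple p) := by
    intro s hs
    obtain ⟨r, hr, rfl⟩ := Finset.mem_image.1 hs
    obtain ⟨hr1, hr2⟩ := (bt_dom_mem_bad D L _ r).1 hr
    rw [reflWord_snoc] at hr2
    have hrp : r ≠ D.simple p := by
      rintro rfl
      rw [reflectRoot_simple, reflWord_neg D (etaOf D) hF.facts w hw _ (hF.simple_lt p hp),
        bt_dom_neg hF L hLv _ (reflWord_lt D (etaOf D) hF.facts w hw _ (hF.simple_lt p hp))] at hr2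
      linarith
    rw [Finset.mem_erase]
    refine ⟨?_, (bt_dom_mem_bad D L w _).2 ⟨hF.refl.refl_pos p hp r hr1 hrp, hr2⟩⟩
    intro h
    have h3 := hfa.winv r hr1.1
    rw [h, reflectRoot_simple] at h3
    exact hF.sign.not_both r hr1 (h3 ▸ hF.sign.neg_of_pos _ (hF.simple_pos p hp))
  have hinj : Set.InjOn (D.reflectRoot p) (bt_dom_bad D L (w ++ [p]) : Set ℕ) := by
    intro a ha b hb hab
    have h1 := hfa.winv a ((bt_dom_mem_bad D L _ a).1 ha).1.1
    have h2 := hfa.winv b ((bt_dom_mem_bad D L _ b).1 hb).1.1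
    rw [← h1, ← h2, hab]
  calc (bt_dom_bad D L (w ++ [p])).card
      = ((bt_dom_bad D L (w ++ [p])).image (D.reflectRoot p)).card :=
        (Finset.card_image_of_injOn hinj).symm
    _ ≤ ((bt_dom_bad D L w).erase (D.simple p)).card := Finset.card_le_card hsub
    _ < (bt_dom_bad D L w).card :=
        Finset.card_erase_lt_of_mem ((bt_dom_mem_bad D L w _).2 ⟨hF.simple_pos p hp, hneg⟩)

include hF in
theorem bt_dom_aux (L : ℕ → ℝ) (hLv : IsLvl D L) : ∀ n : ℕ, ∀ w : List ℕ, (∀ i ∈ w, i < D.rank) →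
    (bt_dom_bad D L w).card = n →
    ∃ w' : List ℕ, (∀ i ∈ w', i < D.rank) ∧ ∀ k < D.rank, 0 ≤ L (reflWord D w' (D.simple k)) := by
  intro n
  induction n using Nat.strong_induction_on with
  | _ n ih =>
    intro w hw hn
    by_cases hdom : ∀ k < D.rank, 0 ≤ L (reflWord D w (D.simple k))
    · exact ⟨w, hw, hdom⟩
    · push_neg at hdom
      obtain ⟨k, hk, hlt⟩ := hdom
      have hcard := bt_dom_card_lt hF L hLv w hw k hk hlt
      have hw' : ∀ i ∈ w ++ [k], i < D.rank := by
        intro i hi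
        rcases List.mem_append.1 hi with h | h
        · exact hw i h
        · rw [List.mem_singleton] at h
          exact h ▸ hk
      exact ih _ (hn ▸ hcard) (w ++ [k]) hw' rfl

include hF in
/-- PIECE BT-DOM [L1]: every admissible level has a dominant Weyl conjugate (minimise the number of positive
roots `r` with `L (reflWord D w r) < 0`; `w ++ [k]` lowers it when `L (reflWord D w (simple k)) < 0`:
`hF.refl.refl_pos`, `(hF.facts k hk).winv`, `.wneg`, `reflWord_snoc`). -/
theorem exists_dominant_conj (L : ℕ → ℝ) (hLv : IsLvl D L) :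
    ∃ w : List ℕ, (∀ i ∈ w, i < D.rank) ∧ ∀ k < D.rank, 0 ≤ L (reflWord D w (D.simple k)) :=
  bt_dom_aux hF L hLv _ [] (fun i hi => absurd hi List.not_mem_nil) rfl

end Cfsg.Agent.Helper18.BT
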