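import Mathlib
import Cfsg.Agent.Lib.Helper18.BTDefs
import Cfsg.Agent.Lib.Lead.ChevFactsAll

/-!
PIECE BT-DOMREP of S2154 (owner helper18), core: the statement of `rch_lin` (BT-RCHLIN) as a
hypothesis.
-/

set_option autoImplicit false
set_option linter.unusedSectionVars false
set_option linter.unusedVariables false

namespace Cfsg.Agent.Helper18.BT

open Cfsg Cfsg.Lie Cfsg.Agent.Lead.Chev Cfsg.Agent.Helper6.ChevL

variable {F : Type*} [Field F] {D : ChevalleyDatum} (hF : ChevFacts D F)

include hF in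
theorem bt_domrep_core
    (hrl : 0 < rch D (D.simple 0) 0 ∧ ∀ s < D.nroots, ∀ j < D.rank,
      rch D (D.simple 0) 0 * D.cartan j s =
        ∑ k ∈ Finset.range D.rank, rch D s k * D.cartan j (D.simple k))
    (L : ℕ → ℝ) (hLv : IsLvl D L) (hdom : ∀ k < D.rank, 0 ≤ L (D.simple k)) :
    ∃ lam : Fin D.rank → ℝ, (∀ k, 0 ≤ lam k) ∧ ∀ s < D.nroots, L s = Lof D lam s := by
  obtain ⟨hden, hlin⟩ := hrl
  obtain ⟨mu, hmu⟩ := hLv
  set den : ℝ := (rch D (D.simple 0) 0 : ℝ) with hdendef
  have hden' : 0 < den := by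
    rw [hdendef]; exact_mod_cast hden
  refine ⟨fun k => L (D.simple k.val) / den, fun k => div_nonneg (hdom k.val k.2) hden'.le, ?_⟩
  intro s hs
  unfold Lof
  have hlinR : ∀ j : Fin D.rank, den * (D.cartan j.val s : ℝ) =
      ∑ k : Fin D.rank, (rch D s k.val : ℝ) * (D.cartan j.val (D.simple k.val) : ℝ) := by
    intro j
    have h := hlin s hs j.val j.2
    have h' := congrArg (fun z : ℤ => (z : ℝ)) h
    simp only [Int.cast_mul, Int.cast_sum] at h'
    rw [hdendef, h', ← Fin.sum_univ_eq_sum_range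
      (fun k => (rch D s k : ℝ) * (D.cartan j.val (D.simple k) : ℝ)) D.rank]
  have h1 : den * L s = ∑ k : Fin D.rank, (rch D s k.val : ℝ) * L (D.simple k.val) := by
    rw [hmu s hs, Finset.mul_sum]
    have : ∀ k : Fin D.rank, L (D.simple k.val) =
        ∑ j : Fin D.rank, mu j * (D.cartan j.val (D.simple k.val) : ℝ) :=
      fun k => hmu _ (hF.simple_lt k.val k.2)
    simp_rw [this, Finset.mul_sum]
    rw [Finset.sum_comm]
    refine Finset.sum_congr rfl fun j _ => ?_
    rw [show den * (mu j * (D.cartan j.val s : ℝ)) = mu j * (den * (D.cartan j.val s : ℝ)) by ring,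
      hlinR j, Finset.mul_sum]
    refine Finset.sum_congr rfl fun k _ => ?_
    ring
  have h2 : L s = (∑ k : Fin D.rank, (rch D s k.val : ℝ) * L (D.simple k.val)) / den := by
    rw [← h1, mul_div_cancel_left₀ _ hden'.ne']
  rw [h2, Finset.sum_div]
  refine Finset.sum_congr rfl fun k _ => ?_
  ring

end Cfsg.Agent.Helper18.BT
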