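import Mathlib
import Cfsg.Agent.Lib.Helper18.BTDefs
import Cfsg.Agent.Lib.Lead.ChevBruhat2
import Cfsg.Agent.Lib.Lead.ChevCells
import Cfsg.Agent.Lib.Lead.ChevFactsAll
import Cfsg.Agent.Lib.Helper6.UniRJ

/-!
# S2154 piece BT-RCHLIN (helper25): `den * A_{p_j, s} = Σ_k rch(s,k) A_{p_j, p_k}`.

It suffices to check the `rank × rank` identity `Σ_k B_{j' k} A_{p_j, p_k} = den * δ_{j j'}` for the
table `B = bTab D` (a Boolean checker, one `decide +kernel` per datum); the statement for all roots
`s` follows by exchanging the two sums.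
-/

set_option autoImplicit false
set_option linter.unusedSectionVars false
set_option linter.unusedVariables false

namespace Cfsg.Agent.Helper18.BT

open Cfsg Cfsg.Lie Cfsg.Agent.Lead.Chev Cfsg.Agent.Helper6.ChevL

/-- the denominator as a list sum -/
def bt_rchlin_den (D : ChevalleyDatum) : ℤ :=
  ((List.range D.rank).map fun i => bOf D i 0 * D.cartan i (D.simple 0)).sum

/-- the Boolean checker: `den > 0` and `B * (Cartan matrix)ᵀ = den * 1` -/
def bt_rchlin_chk (D : ChevalleyDatum) : Bool :=
  decide (0 < bt_rchlin_den D) &&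
  (List.range D.rank).all fun j' => (List.range D.rank).all fun j =>
    decide (((List.range D.rank).map fun k => bOf D j' k * D.cartan j (D.simple k)).sum =
      if j = j' then bt_rchlin_den D else 0)

theorem bt_rchlin_den_eq (D : ChevalleyDatum) : bt_rchlin_den D = rch D (D.simple 0) 0 := by
  rw [bt_rchlin_den, list_range_sum, rch]

theorem bt_rchlin_of_chk (D : ChevalleyDatum) (h : bt_rchlin_chk D = true) :
    0 < rch D (D.simple 0) 0 ∧ ∀ s < D.nroots, ∀ j < D.rank,
      rch D (D.simple 0) 0 * D.cartan j s =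
        ∑ k ∈ Finset.range D.rank, rch D s k * D.cartan j (D.simple k) := by
  rw [bt_rchlin_chk, Bool.and_eq_true, decide_eq_true_eq, List.all_eq_true] at h
  obtain ⟨hpos, hall⟩ := h
  rw [bt_rchlin_den_eq] at hpos
  refine ⟨hpos, ?_⟩
  intro s _ j hj
  have key : ∀ j' ∈ Finset.range D.rank,
      ∑ k ∈ Finset.range D.rank, bOf D j' k * D.cartan j (D.simple k) =
        if j = j' then rch D (D.simple 0) 0 else 0 := by
    intro j' hj'
    have h1 := hall j' (List.mem_range.2 (Finset.mem_range.1 hj'))
    rw [List.all_eq_true] at h1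
    have h2 := h1 j (List.mem_range.2 hj)
    rw [decide_eq_true_eq, list_range_sum, bt_rchlin_den_eq] at h2
    exact h2
  calc rch D (D.simple 0) 0 * D.cartan j s
      = ∑ j' ∈ Finset.range D.rank,
          D.cartan j' s * (if j = j' then rch D (D.simple 0) 0 else 0) := by
        rw [Finset.sum_eq_single j]
        · rw [if_pos rfl, mul_comm]
        · intro b _ hb
          rw [if_neg (Ne.symm hb), mul_zero]
        · intro hnot
          exact absurd (Finset.mem_range.2 hj) hnot
    _ = ∑ j' ∈ Finset.range D.rank, D.cartan j' s *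
          ∑ k ∈ Finset.range D.rank, bOf D j' k * D.cartan j (D.simple k) := by
        apply Finset.sum_congr rfl
        intro j' hj'
        rw [key j' hj']
    _ = ∑ k ∈ Finset.range D.rank, rch D s k * D.cartan j (D.simple k) := by
        simp_rw [Finset.mul_sum]
        rw [Finset.sum_comm]
        apply Finset.sum_congr rfl
        intro k _
        rw [rch, Finset.sum_mul]
        apply Finset.sum_congr rfl
        intro j' _
        ring

theorem bt_rchlin_G2 : bt_rchlin_chk chevG2 = true := by decide +kernel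
theorem bt_rchlin_B2 : bt_rchlin_chk chevB2 = true := by decide +kernel
theorem bt_rchlin_D4 : bt_rchlin_chk chevD4 = true := by decide +kernel
theorem bt_rchlin_F4 : bt_rchlin_chk chevF4 = true := by decide +kernel
theorem bt_rchlin_E6 : bt_rchlin_chk chevE6 = true := by decide +kernel
theorem bt_rchlin_E7 : bt_rchlin_chk chevE7 = true := by decide +kernel
theorem bt_rchlin_E8 : bt_rchlin_chk chevE8 = true := by decide +kernel

/-- PIECE BT-RCHLIN [L1]: `den * A_{p_j, s} = Σ_k rch(s,k) A_{p_j, p_k}`, `den = rch(p_0, 0) > 0`. -/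
theorem rch_lin (D : ChevalleyDatum) (hD : D ∈ [chevG2, chevB2, chevD4, chevF4, chevE6, chevE7, chevE8]) :
    0 < rch D (D.simple 0) 0 ∧ ∀ s < D.nroots, ∀ j < D.rank,
      rch D (D.simple 0) 0 * D.cartan j s =
        ∑ k ∈ Finset.range D.rank, rch D s k * D.cartan j (D.simple k) := by
  simp only [List.mem_cons, List.not_mem_nil, or_false] at hD
  rcases hD with rfl | rfl | rfl | rfl | rfl | rfl | rfl
  · exact bt_rchlin_of_chk _ bt_rchlin_G2
  · exact bt_rchlin_of_chk _ bt_rchlin_B2
  · exact bt_rchlin_of_chk _ bt_rchlin_D4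
  · exact bt_rchlin_of_chk _ bt_rchlin_F4
  · exact bt_rchlin_of_chk _ bt_rchlin_E6
  · exact bt_rchlin_of_chk _ bt_rchlin_E7
  · exact bt_rchlin_of_chk _ bt_rchlin_E8

end Cfsg.Agent.Helper18.BT
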