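import Mathlib
import Cfsg.Agent.Lib.Helper18.BTDefs
import Cfsg.Agent.Lib.Lead.ChevBruhat2
import Cfsg.Agent.Lib.Lead.ChevCells
import Cfsg.Agent.Lib.Lead.ChevFactsAll
import Cfsg.Agent.Lib.Helper6.UniRJ
import Cfsg.Agent.S2326
import Cfsg.Agent.Lib.BT.BTRCHLIN
import Cfsg.Agent.Lib.BT.BTDOMREPCore

/-!
PIECE BT-DOMREP of S2154 (owner helper18): a dominant admissible level is a `Lof lam`, `lam ≥ 0`.
-/

set_option autoImplicit false
set_option linter.unusedSectionVars false
set_option linter.unusedVariables false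

namespace Cfsg.Agent.Helper18.BT

open Cfsg Cfsg.Lie Cfsg.Agent.Lead.Chev Cfsg.Agent.Helper6.ChevL

variable {F : Type*} [Field F] {D : ChevalleyDatum} (hF : ChevFacts D F) (hL : LvlFacts D)

include hF in
/-- PIECE BT-DOMREP [L2, uses rch_lin]: an admissible level which is non-negative on the fundamental roots is a `Lof lam`,
`lam ≥ 0` (`lam k = L (simple k) / den`, by `rch_lin`). -/
theorem exists_lam_of_dominant (hD : D ∈ [chevG2, chevB2, chevD4, chevF4, chevE6, chevE7, chevE8])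
    (L : ℕ → ℝ) (hLv : IsLvl D L) (hdom : ∀ k < D.rank, 0 ≤ L (D.simple k)) :
    ∃ lam : Fin D.rank → ℝ, (∀ k, 0 ≤ lam k) ∧ ∀ s < D.nroots, L s = Lof D lam s :=
  bt_domrep_core hF (rch_lin D hD) L hLv hdom

end Cfsg.Agent.Helper18.BT
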