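import Mathlib

/-!
# S2154 (Borel–Tits, helper18) piece BT-OPT (helper5): a continuous function dominating the squares of
the coordinates attains its minimum on a non-empty closed subset of `Fin m → ℝ`.
-/

set_option autoImplicit false

namespace Cfsg.Agent.Helper18.BT

/-- PIECE BT-OPT [L1]: a continuous function dominating the squares of the coordinates attains its minimum on a
non-empty closed set. -/
theorem exists_min_of_closed {m : ℕ} (S : Set (Fin m → ℝ)) (hS : IsClosed S) (hne : S.Nonempty)
    (f : (Fin m → ℝ) → ℝ) (hf : Continuous f) (hco : ∀ x k, (x k) ^ 2 ≤ f x) :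
    ∃ x ∈ S, ∀ y ∈ S, f x ≤ f y := by
  obtain ⟨x0, hx0⟩ := hne
  set c : ℝ := f x0 with hc
  set K : Set (Fin m → ℝ) := S ∩ {x | f x ≤ c} with hK
  have hKclosed : IsClosed K := hS.inter (isClosed_le hf continuous_const)
  have hKsub : K ⊆ Metric.closedBall (0 : Fin m → ℝ) (Real.sqrt c) := by
    intro x hx
    rw [mem_closedBall_zero_iff, pi_norm_le_iff_of_nonneg (Real.sqrt_nonneg c)]
    intro k
    rw [Real.norm_eq_abs]
    exact Real.abs_le_sqrt (le_trans (hco x k) hx.2)
  have hKcompact : IsCompact K :=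
    Metric.isCompact_of_isClosed_isBounded hKclosed (Metric.isBounded_closedBall.subset hKsub)
  have hKne : K.Nonempty := ⟨x0, hx0, le_refl c⟩
  obtain ⟨x, hxK, hmin⟩ := hKcompact.exists_isMinOn hKne hf.continuousOn
  refine ⟨x, hxK.1, ?_⟩
  intro y hy
  by_cases hyc : f y ≤ c
  · exact hmin ⟨hy, hyc⟩
  · exact le_trans hxK.2 (le_of_lt (not_le.mp hyc))

end Cfsg.Agent.Helper18.BT
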