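import Mathlib
import Cfsg.Agent.Lib.Helper18.BTDefs
import Cfsg.Agent.Lib.Lead.ChevBruhat2
import Cfsg.Agent.Lib.Lead.ChevCells
import Cfsg.Agent.Lib.Lead.ChevFactsAll
import Cfsg.Agent.Lib.Helper6.UniRJ
import Cfsg.Agent.S2326

/-!
# S2154 (Borel–Tits) piece BT-SYL: a `p`-subgroup of `G` is conjugate into `U`.
-/

set_option autoImplicit false
set_option linter.unusedSectionVars false
set_option linter.unusedVariables false

namespace Cfsg.Agent.Helper18.BT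

open Cfsg Cfsg.Lie Cfsg.Agent.Lead.Chev Cfsg.Agent.Helper6.ChevL

variable {F : Type*} [Field F] {D : ChevalleyDatum} (hF : ChevFacts D F) (hL : LvlFacts D)

/-- PIECE BT-SYL [L1]: a `p`-subgroup is conjugate into `U` (`Cfsg.Agent.S2326.result` and Sylow's theorem). -/
theorem exists_conj_le_posUnipotent [Fintype F] (p : ℕ) [Fact p.Prime] [CharP F p]
    (hD : D ∈ [chevG2, chevB2, chevD4, chevF4, chevE6, chevE7, chevE8])
    (R : Subgroup (GL D.Idx F)) (hRG : R ≤ D.group F) (hR : IsPGroup p ↥R) :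
    ∃ g ∈ D.group F, ∀ x ∈ R, g⁻¹ * x * g ∈ D.posUnipotent F := by
  classical
  obtain ⟨P, hP⟩ := Cfsg.Agent.S2326.result (F := F) p D hD
  have hR' : IsPGroup p ↥(R.subgroupOf (D.group F)) :=
    hR.of_equiv (Subgroup.subgroupOfEquivOfLe hRG).symm
  obtain ⟨Q, hQ⟩ := hR'.exists_le_sylow
  obtain ⟨g, hg⟩ := MulAction.exists_smul_eq (↥(D.group F)) Q P
  refine ⟨((g⁻¹ : ↥(D.group F)) : GL D.Idx F), (g⁻¹).2, ?_⟩
  intro x hx
  have hxQ : (⟨x, hRG hx⟩ : ↥(D.group F)) ∈ (Q : Subgroup ↥(D.group F)) :=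
    hQ (Subgroup.mem_subgroupOf.2 hx)
  have h1 : g * ⟨x, hRG hx⟩ * g⁻¹ ∈
      ((g • Q : Sylow p ↥(D.group F)) : Subgroup ↥(D.group F)) := by
    rw [Sylow.coe_subgroup_smul]
    have h0 := Subgroup.smul_mem_pointwise_smul _ (MulAut.conj g) (Q : Subgroup ↥(D.group F)) hxQ
    rwa [MulAut.smul_def, MulAut.conj_apply] at h0
  rw [hg, hP, Subgroup.mem_subgroupOf] at h1
  simpa [mul_assoc] using h1

end Cfsg.Agent.Helper18.BT
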