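import Mathlib
import Cfsg.Agent.Lib.Helper18.BTDefs
import Cfsg.Agent.Lib.Lead.ChevBruhat2
import Cfsg.Agent.Lib.Lead.ChevCells
import Cfsg.Agent.Lib.Lead.ChevFactsAll
import Cfsg.Agent.Lib.Helper6.UniRJ
import Cfsg.Agent.Lib.BT.BTADD
import Cfsg.Agent.Lib.BT.BTPOS

/-!
# S2154 (Borel–Tits) piece BT-UNI: `U` raises the height level by at least `1`.
-/

set_option autoImplicit false
set_option linter.unusedSectionVars false
set_option linter.unusedVariables false

namespace Cfsg.Agent.Helper18.BT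

open Cfsg Cfsg.Lie Cfsg.Agent.Lead.Chev Cfsg.Agent.Helper6.ChevL

section abstract

variable {ι : Type*} [Fintype ι] [DecidableEq ι] {K : Type*} [Field K]

theorem bt_uni_sh_add {l : ι → ℝ} {c : ℝ} {A B : Matrix ι ι K} (hA : Sh l l c A) (hB : Sh l l c B) :
    Sh l l c (A + B) := by
  intro a b h
  rw [Matrix.add_apply] at h
  by_cases h1 : A a b = 0
  · rw [h1, zero_add] at h
    exact hB a b h
  · exact hA a b h1

theorem bt_uni_sh_mul {l : ι → ℝ} {A B : Matrix ι ι K} (hA : Sh l l 1 A) (hB : Sh l l 1 B) :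
    Sh l l 1 (A * B) := by
  intro a c h
  obtain ⟨b, h1, h2⟩ := exists_of_mul_ne_zero A B a c h
  have e1 := hA a b h1
  have e2 := hB b c h2
  linarith

theorem bt_uni_sh_zero (l : ι → ℝ) (c : ℝ) : Sh l l c (0 : Matrix ι ι K) := by
  intro a b h
  exact absurd (Matrix.zero_apply a b) h

theorem bt_uni_sh_mul_sub_one {l : ι → ℝ} {A B : Matrix ι ι K} (hA : Sh l l 1 (A - 1))
    (hB : Sh l l 1 (B - 1)) : Sh l l 1 (A * B - 1) := by
  have e : A * B - 1 = (A - 1) + (B - 1) + (A - 1) * (B - 1) := by noncomm_ring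
  rw [e]
  exact bt_uni_sh_add (bt_uni_sh_add hA hB) (bt_uni_sh_mul hA hB)

end abstract

variable {F : Type*} [Field F] {D : ChevalleyDatum} (hF : ChevFacts D F) (hL : LvlFacts D)

include hF hL in
theorem bt_uni_gen (hP : Cfsg.Agent.Helper6.ChevL.ParFacts D) (r : ℕ) (hr : D.IsPosRoot r) (t : F) :
    Sh (LvR D (Lof D (fun _ => 1))) (LvR D (Lof D (fun _ => 1))) 1 (D.x F r t - 1) := by
  intro a b h
  obtain ⟨k, hk, e⟩ := x_entry_real hF hL (Lof D (fun _ => 1)) (isLvl_Lof _) r hr.1 t a b h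
  have h1 := one_le_Lof_one hF hL hP r hr
  rw [e]
  have hk' : (1 : ℝ) ≤ (k : ℝ) := by exact_mod_cast hk
  nlinarith

include hF hL in
/-- PIECE BT-UNI [L2, uses x_entry_real, isLvl_Lof, one_le_Lof_one]: `U` raises the height level by at least `1`. -/
theorem posUnipotent_sh (hP : Cfsg.Agent.Helper6.ChevL.ParFacts D) (u : GL D.Idx F) (hu : u ∈ D.posUnipotent F) :
    Sh (LvR D (Lof D (fun _ => 1))) (LvR D (Lof D (fun _ => 1))) 1 ((u : Matrix D.Idx D.Idx F) - 1) := by
  suffices h : Sh (LvR D (Lof D (fun _ => 1))) (LvR D (Lof D (fun _ => 1))) 1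
      ((u : Matrix D.Idx D.Idx F) - 1) ∧
      Sh (LvR D (Lof D (fun _ => 1))) (LvR D (Lof D (fun _ => 1))) 1
      (((u⁻¹ : GL D.Idx F) : Matrix D.Idx D.Idx F) - 1) from h.1
  unfold ChevalleyDatum.posUnipotent at hu
  induction hu using Subgroup.closure_induction with
  | mem g hg =>
    obtain ⟨r, t, hr, hg⟩ := hg
    have e1 : g = xGL D hF.xadd r t := by
      apply Units.ext
      rw [hg, xGL_val]
    constructor
    · rw [hg]
      exact bt_uni_gen hF hL hP r hr t
    · rw [e1, xGL_inv, xGL_val]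
      exact bt_uni_gen hF hL hP r hr (-t)
  | one =>
    constructor
    · rw [Units.val_one, sub_self]; exact bt_uni_sh_zero _ _
    · rw [inv_one, Units.val_one, sub_self]; exact bt_uni_sh_zero _ _
  | mul g h _ _ ihg ihh =>
    constructor
    · rw [Units.val_mul]; exact bt_uni_sh_mul_sub_one ihg.1 ihh.1
    · rw [mul_inv_rev, Units.val_mul]; exact bt_uni_sh_mul_sub_one ihh.2 ihg.2
  | inv g _ ih =>
    exact ⟨ih.2, by rw [inv_inv]; exact ih.1⟩

end Cfsg.Agent.Helper18.BT
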