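import Mathlib
import Cfsg.Agent.Lib.Helper18.BTDefs
import Cfsg.Agent.Lib.BT.BTSYL
import Cfsg.Agent.Lib.BT.BTUNI
import Cfsg.Agent.Lib.BT.BTOPT
import Cfsg.Agent.Lib.BT.BTCLOSED
import Cfsg.Agent.Lib.BT.BTCOERC

/-!
# S2154 (Borel–Tits), piece BT-MIN: a minimal feasible pair exists.
-/

set_option autoImplicit false
set_option linter.unusedSectionVars false
set_option linter.unusedVariables false

namespace Cfsg.Agent.Helper18.BT

open Cfsg Cfsg.Lie Cfsg.Agent.Lead.Chev Cfsg.Agent.Helper6.ChevL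

variable {F : Type*} [Field F] {D : ChevalleyDatum} (hF : ChevFacts D F) (hL : LvlFacts D)

include hF hL in
/-- PIECE BT-MIN: a minimal feasible pair exists. -/
theorem exists_isMin [Fintype F] (p : ℕ) [Fact p.Prime] [CharP F p]
    (hD : D ∈ [chevG2, chevB2, chevD4, chevF4, chevE6, chevE7, chevE8])
    (R : Subgroup (GL D.Idx F)) (hRG : R ≤ D.group F) (hR : IsPGroup p ↥R) :
    ∃ g lam, IsMin D R g lam := by
  set S : Set (Fin D.rank → ℝ) :=
    {lam : Fin D.rank → ℝ | (∀ k, 0 ≤ lam k) ∧ ∃ g ∈ D.group F, Feas D R g (Lof D lam)} with hS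
  have hne : S.Nonempty := by
    obtain ⟨g, hg, hgU⟩ := exists_conj_le_posUnipotent p hD R hRG hR
    refine ⟨fun _ => 1, fun _ => zero_le_one, g, hg, ?_⟩
    intro x hx
    exact posUnipotent_sh hF hL (Cfsg.Agent.Helper6.ChevL.parFacts_of_mem D hD) _ (hgU x hx)
  obtain ⟨lam, hlamS, hmin⟩ := exists_min_of_closed S (isClosed_feasible R) hne
    (fun lam => nrm D (Lof D lam)) continuous_nrm_Lof (fun x k => sq_le_nrm hF hL x k)
  obtain ⟨hlam, g, hg, hfeas⟩ := hlamS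
  exact ⟨g, lam, hg, hlam, hfeas, fun g' hg' lam' hlam' hf' => hmin lam' ⟨hlam', g', hg', hf'⟩⟩

end Cfsg.Agent.Helper18.BT
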