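import Mathlib
import Cfsg.Agent.Lib.Helper18.BTDefs
import Cfsg.Agent.Lib.Lead.ChevBruhat2
import Cfsg.Agent.Lib.Lead.ChevCells
import Cfsg.Agent.Lib.Lead.ChevFactsAll

/-!
# S2154 (Borel–Tits) piece BT-MONO (helper11, for helper18): `n_w` is monomial on the root
coordinates, maps Cartan coordinates to Cartan coordinates, and transports levels.
-/

set_option autoImplicit false
set_option linter.unusedSectionVars false
set_option linter.unusedVariables false

namespace Cfsg.Agent.Helper18.BT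

open Cfsg Cfsg.Lie Cfsg.Agent.Lead.Chev Cfsg.Agent.Helper6.ChevL

/-- the coroot vectors have no root coordinates -/
theorem bt_mono_Hvec_inr {F : Type*} [Field F] (D : ChevalleyDatum) (r : ℕ) (x : Fin D.nroots) :
    (Hvec D r : D.Idx → F) (Sum.inr x) = 0 := by
  unfold Hvec
  have h : ∀ l : List ℕ, ((l.map fun i =>
      ((((D.coroot.getD r #[]).getD i 0 : ℤ) : F)) • (bvec D (.inl i) : D.Idx → F)).sum)
        (Sum.inr x) = 0 := by
    intro l
    induction l with
    | nil => simp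
    | cons a l ih =>
      rw [List.map_cons, List.sum_cons, Pi.add_apply, ih, add_zero, Pi.smul_apply]
      simp [bvec, codeOf]
  exact h _

/-- the entry of a matrix as a coordinate of the image of a basis vector -/
theorem bt_mono_entry {ι : Type*} [Fintype ι] [DecidableEq ι] {K : Type*} [Field K]
    (M : Matrix ι ι K) (a b : ι) : M a b = (M.mulVec (Pi.single b 1)) a := by
  simp [Matrix.mulVec, dotProduct, Pi.single_apply]

variable {F : Type*} [Field F] {D : ChevalleyDatum} (hF : ChevFacts D F) (hL : LvlFacts D)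

include hF in
/-- PIECE BT-MONO [L1] (1/2): the non-zero entries of `n_w`: Cartan to Cartan, `e_s` to `e_{w s}`
(`hF.nWordGL_mulVec_inr`, `nWordGL_mulVec_Hvec`, `Hvec_simple`, `bvec_inr_eq`, `bvec_inl_eq`); and the
entry at `(w s, s)` is not zero. -/
theorem nWordGL_entry (w : List ℕ) (hw : ∀ i ∈ w, i < D.rank) :
    (∀ a b, ((nWordGL D hF.xadd w : GL D.Idx F) : Matrix D.Idx D.Idx F) a b ≠ 0 →
      (∃ i j, a = Sum.inl i ∧ b = Sum.inl j) ∨
        ∃ (s : Fin D.nroots) (h : reflWord D w s.val < D.nroots), b = Sum.inr s ∧ a = Sum.inr ⟨_, h⟩) ∧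
    ∀ (s : Fin D.nroots) (h : reflWord D w s.val < D.nroots),
      ((nWordGL D hF.xadd w : GL D.Idx F) : Matrix D.Idx D.Idx F) (Sum.inr ⟨_, h⟩) (Sum.inr s) ≠ 0 := by
  classical
  -- the root columns
  have hcol : ∀ (s : Fin D.nroots) (h : reflWord D w s.val < D.nroots), ∃ ε : F, ε ≠ 0 ∧
      ∀ a, ((nWordGL D hF.xadd w : GL D.Idx F) : Matrix D.Idx D.Idx F) a (Sum.inr s) =
        ε * (Pi.single (Sum.inr ⟨reflWord D w s.val, h⟩ : D.Idx) (1 : F) : D.Idx → F) a := by
    intro s h
    obtain ⟨ε, hε, he⟩ := hF.nWordGL_mulVec_inr w hw s.val s.isLt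
    refine ⟨ε, hε, fun a => ?_⟩
    rw [bvec_inr_eq D s.val s.isLt, bvec_inr_eq D _ h] at he
    rw [bt_mono_entry ((nWordGL D hF.xadd w : GL D.Idx F) : Matrix D.Idx D.Idx F) a (Sum.inr s), he,
      Pi.smul_apply, smul_eq_mul]
  -- the Cartan columns
  have hcar : ∀ (j : Fin D.rank) (x : Fin D.nroots),
      ((nWordGL D hF.xadd w : GL D.Idx F) : Matrix D.Idx D.Idx F) (Sum.inr x) (Sum.inl j) = 0 := by
    intro j x
    have h1 := hF.nWordGL_mulVec_Hvec w hw (D.simple j.val) (hF.simple_lt j.val j.isLt)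
    rw [Hvec_simple D hF.refl j.val j.isLt, bvec_inl_eq D j.val j.isLt] at h1
    rw [bt_mono_entry ((nWordGL D hF.xadd w : GL D.Idx F) : Matrix D.Idx D.Idx F) (Sum.inr x)
      (Sum.inl j), h1]
    exact bt_mono_Hvec_inr D _ x
  refine ⟨?_, ?_⟩
  · intro a b hab
    rcases b with j | s
    · rcases a with i | x
      · exact Or.inl ⟨i, j, rfl, rfl⟩
      · exact absurd (hcar j x) hab
    · have h := reflWord_lt D (etaOf D) hF.facts w hw s.val s.isLt
      obtain ⟨ε, hε, he⟩ := hcol s h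
      refine Or.inr ⟨s, h, rfl, ?_⟩
      by_contra hne
      apply hab
      rw [he a, Pi.single_apply, if_neg hne, mul_zero]
  · intro s h
    obtain ⟨ε, hε, he⟩ := hcol s h
    rw [he, Pi.single_apply, if_pos rfl, mul_one]
    exact hε

include hF in
/-- PIECE BT-MONO (2/2): transport of levels by `n_w` and its inverse. -/
theorem nWordGL_sh (w : List ℕ) (hw : ∀ i ∈ w, i < D.rank) (L L'' : ℕ → ℝ)
    (h : ∀ s < D.nroots, L'' (reflWord D w s) = L s) :
    Sh (LvR D L'') (LvR D L) 0 ((nWordGL D hF.xadd w : GL D.Idx F) : Matrix D.Idx D.Idx F) ∧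
      Sh (LvR D L) (LvR D L'') 0 (((nWordGL D hF.xadd w)⁻¹ : GL D.Idx F) : Matrix D.Idx D.Idx F) := by
  classical
  refine ⟨?_, ?_⟩
  · intro a b hab
    rcases (nWordGL_entry hF w hw).1 a b hab with ⟨i, j, rfl, rfl⟩ | ⟨s, hs, rfl, rfl⟩
    · simp [LvR]
    · simp only [LvR, Sum.elim_inr, add_zero]
      exact (h s.val s.isLt).ge
  · have hwr : ∀ i ∈ w.reverse, i < D.rank := fun i hi => hw i (List.mem_reverse.1 hi)
    obtain ⟨d, hd, hinv⟩ := nWordGL_inv D hF.xadd (etaOf D) hF.nsimple hF.simple_lt w hw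
    obtain ⟨c, hc, hdc⟩ := exists_Tmat_of_mem D hF.hall d hd
    intro a b hab
    rw [hinv, Units.val_mul, hdc] at hab
    have hab' : ((nWordGL D hF.xadd w.reverse : GL D.Idx F) : Matrix D.Idx D.Idx F) a b ≠ 0 := by
      intro h0
      apply hab
      unfold Tmat
      rw [Matrix.diagonal_mul, h0, mul_zero]
    rcases (nWordGL_entry hF w.reverse hwr).1 a b hab' with ⟨i, j, rfl, rfl⟩ | ⟨s, hs, rfl, rfl⟩
    · simp [LvR]
    · simp only [LvR, Sum.elim_inr, add_zero]
      have h1 := h (reflWord D w.reverse s.val) hs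
      rw [reflWord_reverse_cancel D (etaOf D) hF.facts w hw s.val s.isLt] at h1
      exact h1.le

end Cfsg.Agent.Helper18.BT
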