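import Mathlib
import Cfsg.Agent.Lib.Helper18.BTDefs

/-!
# S2154 (Borel–Tits) piece BT-NE (helper3): `J = Jof lam` is a proper subset when `R ≠ ⊥` is feasible.
-/

set_option autoImplicit false
set_option linter.unusedSectionVars false
set_option linter.unusedVariables false

namespace Cfsg.Agent.Helper18.BT

open Cfsg Cfsg.Lie Cfsg.Agent.Lead.Chev Cfsg.Agent.Helper6.ChevL

variable {F : Type*} [Field F] {D : ChevalleyDatum}

/-- PIECE BT-NE [L1]: `J` is a proper subset. -/
theorem exists_not_mem_Jof (R : Subgroup (GL D.Idx F)) (hne : R ≠ ⊥) (g : GL D.Idx F)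
    (lam : Fin D.rank → ℝ) (hf : Feas D R g (Lof D lam)) : ∃ i, i < D.rank ∧ i ∉ Jof D lam := by
  by_contra hcon
  push Not at hcon
  have hlam : ∀ k : Fin D.rank, lam k = 0 := by
    intro k
    obtain ⟨h, hk⟩ := hcon k.val k.isLt
    exact hk
  have hLof : ∀ s, Lof D lam s = 0 := by
    intro s
    unfold Lof
    apply Finset.sum_eq_zero
    intro k _
    rw [hlam k, zero_mul]
  have hLv : ∀ a, LvR D (Lof D lam) a = 0 := by
    intro a
    cases a with
    | inl i => rfl
    | inr s => exact hLof s.val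
  obtain ⟨x, hxR, hx1⟩ : ∃ x ∈ R, x ≠ 1 := by
    by_contra hno
    push Not at hno
    apply hne
    rw [Subgroup.eq_bot_iff_forall]
    exact hno
  have hy : g⁻¹ * x * g ≠ 1 := by
    intro h
    apply hx1
    have : x = g * (g⁻¹ * x * g) * g⁻¹ := by group
    rw [this, h]
    group
  have hm : ((g⁻¹ * x * g : GL D.Idx F) : Matrix D.Idx D.Idx F) - 1 ≠ 0 := by
    intro h
    apply hy
    apply Units.ext
    rw [sub_eq_zero] at h
    exact h
  obtain ⟨a, b, hab⟩ : ∃ a b, (((g⁻¹ * x * g : GL D.Idx F) : Matrix D.Idx D.Idx F) - 1) a b ≠ 0 := by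
    by_contra hno
    push Not at hno
    apply hm
    ext a b
    exact hno a b
  have := hf x hxR a b hab
  rw [hLv a, hLv b] at this
  linarith

end Cfsg.Agent.Helper18.BT
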