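import Mathlib
import Cfsg.Agent.Lib.Helper18.BTDefs

/-!
# S2154 (helper18 farm-out) PIECE BT-RADGEN, core (helper12): `U_J` strictly raises and `L_J` keeps a
real level `L` which vanishes on `Φ_J` and is positive on the roots of `U_J`, given the entry formula
for `x_r(t) - 1` (piece BT-ADD) as a hypothesis.
-/

set_option autoImplicit false
set_option linter.unusedSectionVars false
set_option linter.unusedVariables false

namespace Cfsg.Agent.Helper18.BT

open Cfsg Cfsg.Lie Cfsg.Agent.Lead.Chev Cfsg.Agent.Helper6.ChevL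

section abstract

variable {ι : Type*} [Fintype ι] [DecidableEq ι] {K : Type*} [Field K]

theorem bt_radgen_sr_add {l : ι → ℝ} {A B : Matrix ι ι K} (hA : SR l A) (hB : SR l B) :
    SR l (A + B) := by
  intro a b h
  rw [Matrix.add_apply] at h
  by_cases h1 : A a b = 0
  · rw [h1, zero_add] at h
    exact hB a b h
  · exact hA a b h1

theorem bt_radgen_sr_mul {l : ι → ℝ} {A B : Matrix ι ι K} (hA : SR l A) (hB : SR l B) :
    SR l (A * B) := by
  intro a c h
  obtain ⟨b, h1, h2⟩ := exists_of_mul_ne_zero A B a c h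
  exact lt_trans (hB b c h2) (hA a b h1)

theorem bt_radgen_sr_zero (l : ι → ℝ) : SR l (0 : Matrix ι ι K) := by
  intro a b h
  exact absurd (Matrix.zero_apply a b) h

theorem bt_radgen_sr_mul_sub_one {l : ι → ℝ} {A B : Matrix ι ι K} (hA : SR l (A - 1))
    (hB : SR l (B - 1)) : SR l (A * B - 1) := by
  have e : A * B - 1 = (A - 1) + (B - 1) + (A - 1) * (B - 1) := by noncomm_ring
  rw [e]
  exact bt_radgen_sr_add (bt_radgen_sr_add hA hB) (bt_radgen_sr_mul hA hB)

theorem bt_radgen_kp_mul {l : ι → ℝ} {A B : Matrix ι ι K} (hA : KP l A) (hB : KP l B) :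
    KP l (A * B) := by
  intro a c h
  obtain ⟨b, h1, h2⟩ := exists_of_mul_ne_zero A B a c h
  exact (hA a b h1).trans (hB b c h2)

theorem bt_radgen_kp_one (l : ι → ℝ) : KP l (1 : Matrix ι ι K) := by
  intro a b h
  rw [Matrix.one_apply] at h
  by_cases hab : a = b
  · rw [hab]
  · rw [if_neg hab] at h
    exact absurd rfl h

/-- the invertible matrices `g` with `g - 1` and `g⁻¹ - 1` strictly raising the real level -/
def bt_radgen_srSub (l : ι → ℝ) : Subgroup (GL ι K) where
  carrier := {g | SR l ((g : Matrix ι ι K) - 1) ∧ SR l (((g⁻¹ : GL ι K) : Matrix ι ι K) - 1)}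
  one_mem' := by
    constructor
    · rw [Units.val_one, sub_self]; exact bt_radgen_sr_zero l
    · rw [inv_one, Units.val_one, sub_self]; exact bt_radgen_sr_zero l
  mul_mem' := by
    rintro g h ⟨hg1, hg2⟩ ⟨hh1, hh2⟩
    constructor
    · rw [Units.val_mul]; exact bt_radgen_sr_mul_sub_one hg1 hh1
    · rw [mul_inv_rev, Units.val_mul]; exact bt_radgen_sr_mul_sub_one hh2 hg2
  inv_mem' := by
    rintro g ⟨hg1, hg2⟩
    exact ⟨hg2, by rw [inv_inv]; exact hg1⟩

/-- the invertible matrices `g` with `g` and `g⁻¹` keeping the real level -/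
def bt_radgen_kpSub (l : ι → ℝ) : Subgroup (GL ι K) where
  carrier := {g | KP l (g : Matrix ι ι K) ∧ KP l ((g⁻¹ : GL ι K) : Matrix ι ι K)}
  one_mem' := by
    constructor
    · rw [Units.val_one]; exact bt_radgen_kp_one l
    · rw [inv_one, Units.val_one]; exact bt_radgen_kp_one l
  mul_mem' := by
    rintro g h ⟨hg1, hg2⟩ ⟨hh1, hh2⟩
    constructor
    · rw [Units.val_mul]; exact bt_radgen_kp_mul hg1 hh1
    · rw [mul_inv_rev, Units.val_mul]; exact bt_radgen_kp_mul hh2 hg2
  inv_mem' := by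
    rintro g ⟨hg1, hg2⟩
    exact ⟨hg2, by rw [inv_inv]; exact hg1⟩

end abstract

variable {F : Type*} [Field F] {D : ChevalleyDatum} (hF : ChevFacts D F)

include hF in
/-- the core of BT-RADGEN -/
theorem bt_radgen_core (J : Set ℕ) (L : ℕ → ℝ)
    (hx : ∀ r < D.nroots, ∀ (t : F) (a b : D.Idx), (D.x F r t - 1) a b ≠ 0 →
      ∃ k : ℕ, 1 ≤ k ∧ LvR D L a = LvR D L b + k * L r)
    (hzero : ∀ r, D.InRootSub J r → L r = 0)
    (hpos : ∀ r, D.IsPosRoot r → ¬ D.InRootSub J r → 0 < L r) :
    (∀ u ∈ D.unipotentRadical F J, SR (LvR D L) ((u : Matrix D.Idx D.Idx F) - 1)) ∧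
    (∀ l ∈ D.leviSubgroup F J, KP (LvR D L) (l : Matrix D.Idx D.Idx F)) := by
  have hraise : ∀ r, D.IsPosRoot r → ¬ D.InRootSub J r → ∀ t : F,
      SR (LvR D L) (D.x F r t - 1) := by
    intro r hr hrJ t a b h
    obtain ⟨k, hk, e⟩ := hx r hr.1 t a b h
    rw [e]
    have h1 : (0 : ℝ) < k * L r := mul_pos (by exact_mod_cast hk) (hpos r hr hrJ)
    linarith
  have hkeep : ∀ r, D.InRootSub J r → ∀ t : F, KP (LvR D L) (D.x F r t) := by
    intro r hrJ t a b h
    by_cases hab : a = b
    · rw [hab]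
    · have h1 : (D.x F r t - 1) a b ≠ 0 := by
        rw [Matrix.sub_apply, Matrix.one_apply, if_neg hab, sub_zero]
        exact h
      obtain ⟨k, -, e⟩ := hx r hrJ.1 t a b h1
      rw [e, hzero r hrJ, mul_zero, add_zero]
  have h1 : D.unipotentRadical F J ≤ bt_radgen_srSub (K := F) (LvR D L) := by
    unfold ChevalleyDatum.unipotentRadical
    rw [Subgroup.closure_le]
    rintro g ⟨r, t, hr, hrJ, hg⟩
    have e : g = xGL D hF.xadd r t := Units.ext (by rw [hg, xGL_val])
    refine ⟨?_, ?_⟩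
    · rw [hg]
      exact hraise r hr hrJ t
    · rw [e, xGL_inv, xGL_val]
      exact hraise r hr hrJ (-t)
  have h2 : D.leviSubgroup F J ≤ bt_radgen_kpSub (K := F) (LvR D L) := by
    unfold ChevalleyDatum.leviSubgroup
    apply sup_le
    · intro g hg
      have hdiag : ∀ g : GL D.Idx F, g ∈ D.diagonalSubgroup F →
          KP (LvR D L) (g : Matrix D.Idx D.Idx F) := by
        intro g hg
        obtain ⟨c, -, hgc⟩ := exists_Tmat_of_mem D hF.hall g hg
        intro a b hab
        rw [hgc] at hab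
        unfold Tmat at hab
        by_cases h : a = b
        · rw [h]
        · rw [Matrix.diagonal_apply_ne _ h] at hab
          exact absurd rfl hab
      exact ⟨hdiag g hg, hdiag g⁻¹ (inv_mem hg)⟩
    · rw [Subgroup.closure_le]
      rintro g ⟨r, t, hrJ, hg⟩
      have e : g = xGL D hF.xadd r t := Units.ext (by rw [hg, xGL_val])
      refine ⟨?_, ?_⟩
      · rw [hg]
        exact hkeep r hrJ t
      · rw [e, xGL_inv, xGL_val]
        exact hkeep r hrJ (-t)
  exact ⟨fun u hu => (h1 hu).1, fun l hl => (h2 hl).1⟩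

end Cfsg.Agent.Helper18.BT
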