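import Mathlib
import Cfsg.Agent.Lib.BT.BTRADGENCore
import Cfsg.Agent.Lib.BT.BTADD
import Cfsg.Agent.Lib.BT.BTPOS

/-!
# S2154 (helper18 farm-out) PIECE BT-RADGEN (helper12): `U_J` strictly raises and `L_J` keeps the
level `Lof lam`, `J = Jof lam`.
-/

set_option autoImplicit false
set_option linter.unusedSectionVars false
set_option linter.unusedVariables false

namespace Cfsg.Agent.Helper18.BT

open Cfsg Cfsg.Lie Cfsg.Agent.Lead.Chev Cfsg.Agent.Helper6.ChevL

variable {F : Type*} [Field F] {D : ChevalleyDatum} (hF : ChevFacts D F) (hL : LvlFacts D)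

include hF hL in
/-- PIECE BT-RADGEN [L2, uses x_entry_real, isLvl_Lof, Lof_J, sr_mul_sub_one, kp_mul]: `U_J` strictly raises and `L_J` keeps the level `Lof lam`, `J = Jof lam`
(real copy of the two inclusions in helper6's `radical_inf_levi`). -/
theorem radical_sr_levi_kp (lam : Fin D.rank → ℝ) (hlam : ∀ k, 0 ≤ lam k) :
    (∀ u ∈ D.unipotentRadical F (Jof D lam),
      SR (LvR D (Lof D lam)) ((u : Matrix D.Idx D.Idx F) - 1)) ∧
    (∀ l ∈ D.leviSubgroup F (Jof D lam), KP (LvR D (Lof D lam)) (l : Matrix D.Idx D.Idx F)) :=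
  bt_radgen_core hF (Jof D lam) (Lof D lam)
    (fun r hr t a b h => x_entry_real hF hL (Lof D lam) (isLvl_Lof lam) r hr t a b h)
    (fun r hr => (Lof_J hF hL lam hlam r).1 hr)
    (fun r hr hrJ => (Lof_J hF hL lam hlam r).2 hr hrJ)

end Cfsg.Agent.Helper18.BT
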