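import Mathlib
import Cfsg.Agent.Lib.Helper18.BTDefs

/-!
# S2154 (Borel–Tits), PIECE BT-SH (helper24): calculus of `Sh` and trivial congruences
-/

set_option autoImplicit false
set_option linter.unusedSectionVars false
set_option linter.unusedVariables false

namespace Cfsg.Agent.Helper18.BT

open Cfsg Cfsg.Lie Cfsg.Agent.Lead.Chev Cfsg.Agent.Helper6.ChevL

section abstract

variable {ι : Type*} [Fintype ι] [DecidableEq ι] {K : Type*} [Field K]

/-- PIECE BT-SH [L1] (1/8). -/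
theorem sh_mul {l l' l'' : ι → ℝ} {c c' : ℝ} {A B : Matrix ι ι K} (hA : Sh l l' c A) (hB : Sh l' l'' c' B) :
    Sh l l'' (c + c') (A * B) := by
  intro a b hab
  rw [Matrix.mul_apply] at hab
  obtain ⟨k, _, hk⟩ := Finset.exists_ne_zero_of_sum_ne_zero hab
  have hAk : A a k ≠ 0 := left_ne_zero_of_mul hk
  have hBk : B k b ≠ 0 := right_ne_zero_of_mul hk
  have h1 := hA a k hAk
  have h2 := hB k b hBk
  linarith

/-- PIECE BT-SH (2/8). -/
theorem sh_one (l : ι → ℝ) : Sh l l 0 (1 : Matrix ι ι K) := by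
  intro a b hab
  by_cases h : a = b
  · subst h
    simp
  · exact absurd (Matrix.one_apply_ne h) hab

/-- PIECE BT-SH (3/8). -/
theorem sh_of_sub_one {l : ι → ℝ} {c : ℝ} (hc : 0 ≤ c) {A : Matrix ι ι K} (hA : Sh l l c (A - 1)) :
    Sh l l 0 A := by
  intro a b hab
  by_cases h : a = b
  · subst h
    simp
  · have h1 : (A - 1) a b ≠ 0 := by
      rw [Matrix.sub_apply, Matrix.one_apply_ne h, sub_zero]
      exact hab
    have h2 := hA a b h1
    linarith

/-- PIECE BT-SH (4/8): `g⁻¹ y g - 1 = g⁻¹ (y - 1) g`. -/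
theorem sh_conj {l l' : ι → ℝ} {c : ℝ} (g y : GL ι K)
    (h1 : Sh l' l 0 ((g⁻¹ : GL ι K) : Matrix ι ι K)) (h2 : Sh l l' 0 (g : Matrix ι ι K))
    (hy : Sh l l c ((y : Matrix ι ι K) - 1)) :
    Sh l' l' c (((g⁻¹ * y * g : GL ι K) : Matrix ι ι K) - 1) := by
  have e : ((g⁻¹ * y * g : GL ι K) : Matrix ι ι K) - 1 =
      ((g⁻¹ : GL ι K) : Matrix ι ι K) * ((y : Matrix ι ι K) - 1) * (g : Matrix ι ι K) := by
    have h3 : ((g⁻¹ : GL ι K) : Matrix ι ι K) * (g : Matrix ι ι K) = 1 := by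
      rw [← Units.val_mul, inv_mul_cancel, Units.val_one]
    rw [Matrix.mul_sub, Matrix.sub_mul, mul_one, h3, Units.val_mul, Units.val_mul]
  have h4 := sh_mul (sh_mul h1 hy) h2
  rw [e]
  have h5 : (0 : ℝ) + c + 0 = c := by ring
  rw [h5] at h4
  exact h4

/-- PIECE BT-SH (5/8). -/
theorem sh_avg {l m : ι → ℝ} {A : Matrix ι ι K} (h1 : Sh l l 1 A) (h2 : Sh m m 1 A) :
    Sh (fun a => (l a + m a) / 2) (fun a => (l a + m a) / 2) 1 A := by
  intro a b hab
  have h3 := h1 a b hab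
  have h4 := h2 a b hab
  show (l b + m b) / 2 + 1 ≤ (l a + m a) / 2
  linarith

end abstract

variable {F : Type*} [Field F] {D : ChevalleyDatum}

/-- auxiliary: `LvR` only depends on the values below `nroots` -/
theorem bt_sh_LvR_congr (L L' : ℕ → ℝ) (h : ∀ s < D.nroots, L s = L' s) : LvR D L = LvR D L' := by
  funext a
  rcases a with a | a
  · rfl
  · exact h a.val a.isLt

/-- PIECE BT-SH (6/8): congruence of feasibility (only the values below `nroots` matter). -/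
theorem feas_congr (R : Subgroup (GL D.Idx F)) (g : GL D.Idx F) (L L' : ℕ → ℝ)
    (h : ∀ s < D.nroots, L s = L' s) (hf : Feas D R g L) : Feas D R g L' := by
  intro x hx
  rw [← bt_sh_LvR_congr L L' h]
  exact hf x hx

/-- PIECE BT-SH (7/8). -/
theorem nrm_congr (L L' : ℕ → ℝ) (h : ∀ s < D.nroots, L s = L' s) : nrm D L = nrm D L' := by
  unfold nrm
  apply Finset.sum_congr rfl
  intro s hs
  rw [h s (Finset.mem_range.mp hs)]

/-- PIECE BT-SH (8/8): transport of feasibility (`sh_conj`: `(g n)⁻¹ x (g n) = n⁻¹ (g⁻¹ x g) n`). -/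
theorem feas_mul (R : Subgroup (GL D.Idx F)) (g n : GL D.Idx F) (L L' : ℕ → ℝ)
    (h1 : Sh (LvR D L') (LvR D L) 0 ((n⁻¹ : GL D.Idx F) : Matrix D.Idx D.Idx F))
    (h2 : Sh (LvR D L) (LvR D L') 0 (n : Matrix D.Idx D.Idx F)) (hf : Feas D R g L) :
    Feas D R (g * n) L' := by
  intro x hx
  have h3 := sh_conj n (g⁻¹ * x * g) h1 h2 (hf x hx)
  have e : (g * n)⁻¹ * x * (g * n) = n⁻¹ * (g⁻¹ * x * g) * n := by
    group
  rw [e]
  exact h3

end Cfsg.Agent.Helper18.BT
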