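import Mathlib
import Cfsg.Agent.Lib.Helper18.BTDefs
import Cfsg.Agent.Lib.Lead.ChevBruhat2
import Cfsg.Agent.Lib.Lead.ChevCells
import Cfsg.Agent.Lib.Lead.ChevFactsAll
import Cfsg.Agent.Lib.Helper6.UniRJ
import Cfsg.Agent.S2326

/-!
# S2154 (Borel–Tits), piece BT-STAB, core (helper8)

The stabiliser in `G` of the filtration of a dominant level lies in `P_J`; the three pieces it
uses (`borel_sh`, `nWordGL_entry`, `nWordGL_mem_parabolic_of_fix`) enter as hypotheses.
-/

set_option autoImplicit false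
set_option linter.unusedSectionVars false
set_option linter.unusedVariables false

namespace Cfsg.Agent.Helper18.BT

open Cfsg Cfsg.Lie Cfsg.Agent.Lead.Chev Cfsg.Agent.Helper6.ChevL

/-- local copy of `sh_mul` -/
theorem bt_stab_sh_mul {ι : Type*} [Fintype ι] [DecidableEq ι] {K : Type*} [Field K]
    {l l' l'' : ι → ℝ} {c c' : ℝ} {A B : Matrix ι ι K} (hA : Sh l l' c A) (hB : Sh l' l'' c' B) :
    Sh l l'' (c + c') (A * B) := by
  intro a b hab
  rw [Matrix.mul_apply] at hab
  obtain ⟨k, _, hk⟩ := Finset.exists_ne_zero_of_sum_ne_zero hab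
  have h1 : A a k ≠ 0 := left_ne_zero_of_mul hk
  have h2 : B k b ≠ 0 := right_ne_zero_of_mul hk
  have e1 := hA a k h1
  have e2 := hB k b h2
  linarith

/-- a sum over `range n` is invariant under an involutive-pair bijection of `range n` -/
theorem bt_stab_sum_perm (n : ℕ) (f g : ℕ → ℕ) (hf : ∀ s < n, f s < n) (hg : ∀ s < n, g s < n)
    (hfg : ∀ s < n, f (g s) = s) (hgf : ∀ s < n, g (f s) = s) (L : ℕ → ℝ) :
    ∑ s ∈ Finset.range n, L (f s) = ∑ s ∈ Finset.range n, L s := by
  apply Finset.sum_nbij' f g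
  · intro s hs
    exact Finset.mem_range.2 (hf s (Finset.mem_range.1 hs))
  · intro s hs
    exact Finset.mem_range.2 (hg s (Finset.mem_range.1 hs))
  · intro s hs
    exact hgf s (Finset.mem_range.1 hs)
  · intro s hs
    exact hfg s (Finset.mem_range.1 hs)
  · intro s hs
    rfl

variable {F : Type*} [Field F] {D : ChevalleyDatum} (hF : ChevFacts D F)

include hF in
/-- BT-STAB, with the pieces it uses as hypotheses. -/
theorem bt_stab_core (hS : CorSize D) (lam : Fin D.rank → ℝ)
    (hborel : ∀ b : GL D.Idx F, b ∈ D.borelSubgroup F →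
      Sh (LvR D (Lof D lam)) (LvR D (Lof D lam)) 0 (b : Matrix D.Idx D.Idx F))
    (hentry : ∀ (w : List ℕ), (∀ i ∈ w, i < D.rank) →
      ∀ (s : Fin D.nroots) (h : reflWord D w s.val < D.nroots),
        ((nWordGL D hF.xadd w : GL D.Idx F) : Matrix D.Idx D.Idx F) (Sum.inr ⟨_, h⟩) (Sum.inr s) ≠ 0)
    (hwj : ∀ (w : List ℕ), (∀ i ∈ w, i < D.rank) →
      (∀ r < D.nroots, Lof D lam (reflWord D w r) = Lof D lam r) →
        nWordGL D hF.xadd w ∈ D.parabolicSubgroup F (Jof D lam))
    (y : GL D.Idx F) (hy : y ∈ D.group F)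
    (hsh : Sh (LvR D (Lof D lam)) (LvR D (Lof D lam)) 0 (y : Matrix D.Idx D.Idx F)) :
    y ∈ D.parabolicSubgroup F (Jof D lam) := by
  obtain ⟨b, hb, w, hw, u, hu, e⟩ := hF.exists_bruhat hS y hy
  have huB : u ∈ D.borelSubgroup F :=
    posUnipotent_le_borel D (hF.negPart_le_posUnipotent w hu)
  -- `n_w = b⁻¹ y u⁻¹` preserves the filtration
  have en : nWordGL D hF.xadd w = b⁻¹ * y * u⁻¹ := by
    rw [e]; group
  have h1 := hborel b⁻¹ (inv_mem hb)
  have h2 := hborel u⁻¹ (inv_mem huB)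
  have h3 := bt_stab_sh_mul (bt_stab_sh_mul h1 hsh) h2
  have hn : Sh (LvR D (Lof D lam)) (LvR D (Lof D lam)) 0
      ((nWordGL D hF.xadd w : GL D.Idx F) : Matrix D.Idx D.Idx F) := by
    rw [en]
    have : ((b⁻¹ * y * u⁻¹ : GL D.Idx F) : Matrix D.Idx D.Idx F) =
        ((b⁻¹ : GL D.Idx F) : Matrix D.Idx D.Idx F) * (y : Matrix D.Idx D.Idx F) *
          ((u⁻¹ : GL D.Idx F) : Matrix D.Idx D.Idx F) := by
      simp only [Units.val_mul]
    rw [this]
    simpa using h3
  -- the level does not decrease along `w`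
  have hlt : ∀ s < D.nroots, reflWord D w s < D.nroots :=
    fun s hs => reflWord_lt D (etaOf D) hF.facts w hw s hs
  have hle : ∀ s < D.nroots, Lof D lam s ≤ Lof D lam (reflWord D w s) := by
    intro s hs
    have h := hn (Sum.inr ⟨reflWord D w s, hlt s hs⟩) (Sum.inr ⟨s, hs⟩)
      (hentry w hw ⟨s, hs⟩ (hlt s hs))
    simpa [LvR] using h
  -- summing over the permutation
  have hwr : ∀ i ∈ w.reverse, i < D.rank := fun i hi => hw i (List.mem_reverse.1 hi)
  have hsum : ∑ s ∈ Finset.range D.nroots, Lof D lam (reflWord D w s) =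
      ∑ s ∈ Finset.range D.nroots, Lof D lam s :=
    bt_stab_sum_perm D.nroots (reflWord D w) (reflWord D w.reverse) hlt
      (fun s hs => reflWord_lt D (etaOf D) hF.facts w.reverse hwr s hs)
      (fun s hs => reflWord_reverse_cancel D (etaOf D) hF.facts w hw s hs)
      (fun s hs => reflWord_reverse_cancel' D (etaOf D) hF.facts w hw s hs) (Lof D lam)
  have hzero : ∑ s ∈ Finset.range D.nroots, (Lof D lam (reflWord D w s) - Lof D lam s) = 0 := by
    rw [Finset.sum_sub_distrib, hsum, sub_self]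
  have hall := (Finset.sum_eq_zero_iff_of_nonneg (fun s hs => by
    have := hle s (Finset.mem_range.1 hs); linarith)).1 hzero
  have hfix : ∀ r < D.nroots, Lof D lam (reflWord D w r) = Lof D lam r := by
    intro r hr
    have := hall r (Finset.mem_range.2 hr)
    linarith
  have hnP := hwj w hw hfix
  rw [e]
  exact mul_mem (mul_mem (borel_le_parabolic _ hb) hnP) (borel_le_parabolic _ huB)

end Cfsg.Agent.Helper18.BT
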