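import Mathlib
import Cfsg.Agent.Lib.Helper18.BTDefs
import Cfsg.Agent.Lib.Lead.ChevBruhat2
import Cfsg.Agent.Lib.Lead.ChevFactsAll

/-! BT-WCL (S2154 Borel–Tits, helper18's farm-out): admissible levels and the Weyl group. -/

set_option autoImplicit false
set_option linter.unusedSectionVars false
set_option linter.unusedVariables false

namespace Cfsg.Agent.Helper18.BT

open Cfsg Cfsg.Lie Cfsg.Agent.Lead.Chev Cfsg.Agent.Helper6.ChevL

variable {F : Type*} [Field F] {D : ChevalleyDatum} (hF : ChevFacts D F) (hL : LvlFacts D)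

include hF in
/-- the Cartan integers of a reflected root. -/
theorem bt_wcl_cartan_reflect (i : ℕ) (hi : i < D.rank) (r : ℕ) (hr : r < D.nroots) (j : ℕ)
    (hj : j < D.rank) :
    D.cartan j (D.reflectRoot i r) = D.cartan j r - D.cartan j (D.simple i) * D.cartan i r := by
  have hfa := hF.facts i hi
  have h1 := hfa.car (D.reflectRoot i r) (hfa.wlt r hr) j hj
  rw [hfa.winv r hr] at h1
  exact h1

include hF in
/-- PIECE BT-WCL [L1] (1/4): admissible levels and a fundamental reflection. -/
theorem isLvl_reflect (L : ℕ → ℝ) (hLv : IsLvl D L) (j : ℕ) (hj : j < D.rank) (r : ℕ) (hr : r < D.nroots) :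
    L (D.reflectRoot j r) = L r - (D.cartan j r : ℝ) * L (D.simple j) := by
  obtain ⟨mu, hmu⟩ := hLv
  have hfa := hF.facts j hj
  rw [hmu _ (hfa.wlt r hr), hmu r hr, hmu _ (hF.simple_lt j hj), Finset.mul_sum, ← Finset.sum_sub_distrib]
  apply Finset.sum_congr rfl
  intro k _
  rw [bt_wcl_cartan_reflect hF j hj r hr k.val k.isLt]
  push_cast
  ring

include hF in
/-- admissible levels are stable under a fundamental reflection. -/
theorem bt_wcl_isLvl_reflectRoot (L : ℕ → ℝ) (hLv : IsLvl D L) (i : ℕ) (hi : i < D.rank) :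
    IsLvl D (fun s => L (D.reflectRoot i s)) := by
  have hrefl := isLvl_reflect hF L hLv i hi
  obtain ⟨mu, hmu⟩ := hLv
  refine ⟨fun k => mu k - (if k.val = i then L (D.simple i) else 0), ?_⟩
  intro s hs
  show L (D.reflectRoot i s) = _
  rw [hrefl s hs, hmu s hs]
  have h1 : ∑ k : Fin D.rank, (mu k - (if k.val = i then L (D.simple i) else 0)) * (D.cartan k.val s : ℝ)
      = ∑ k : Fin D.rank, mu k * (D.cartan k.val s : ℝ) -
        ∑ k : Fin D.rank, (if k.val = i then L (D.simple i) else 0) * (D.cartan k.val s : ℝ) := by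
    rw [← Finset.sum_sub_distrib]
    apply Finset.sum_congr rfl
    intro k _
    ring
  rw [h1]
  congr 1
  rw [Finset.sum_eq_single (⟨i, hi⟩ : Fin D.rank)]
  · simp only [if_true]
    ring
  · intro k _ hk
    have : k.val ≠ i := fun h => hk (Fin.ext h)
    simp [this]
  · intro h
    exact absurd (Finset.mem_univ _) h

include hF in
/-- PIECE BT-WCL (2/4): the admissible levels are stable under the Weyl group. -/
theorem isLvl_reflWord (L : ℕ → ℝ) (hLv : IsLvl D L) (w : List ℕ) (hw : ∀ i ∈ w, i < D.rank) :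
    IsLvl D (fun s => L (reflWord D w s)) := by
  induction w generalizing L with
  | nil => exact hLv
  | cons i w ih =>
    have hi := hw i List.mem_cons_self
    have hw' : ∀ j ∈ w, j < D.rank := fun j hj => hw j (List.mem_cons_of_mem _ hj)
    have h1 := ih (fun s => L (D.reflectRoot i s)) (bt_wcl_isLvl_reflectRoot hF L hLv i hi) hw'
    exact h1

/-- PIECE BT-WCL (3/4). -/
theorem isLvl_avg (L L' : ℕ → ℝ) (h : IsLvl D L) (h' : IsLvl D L') : IsLvl D (fun s => (L s + L' s) / 2) := by
  obtain ⟨mu, hmu⟩ := h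
  obtain ⟨mu', hmu'⟩ := h'
  refine ⟨fun k => (mu k + mu' k) / 2, ?_⟩
  intro s hs
  show (L s + L' s) / 2 = _
  rw [hmu s hs, hmu' s hs, ← Finset.sum_add_distrib, Finset.sum_div]
  apply Finset.sum_congr rfl
  intro k _
  ring

include hF in
/-- PIECE BT-WCL (4/4): the norm is Weyl invariant. -/
theorem nrm_reflWord (L : ℕ → ℝ) (w : List ℕ) (hw : ∀ i ∈ w, i < D.rank) :
    nrm D (fun s => L (reflWord D w s)) = nrm D L := by
  unfold nrm
  have hwr : ∀ i ∈ w.reverse, i < D.rank := fun i hi => hw i (List.mem_reverse.1 hi)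
  refine Finset.sum_nbij' (fun s => reflWord D w s) (fun s => reflWord D w.reverse s) ?_ ?_ ?_ ?_ ?_
  · intro s hs
    rw [Finset.mem_range] at hs ⊢
    exact reflWord_lt D (etaOf D) hF.facts w hw s hs
  · intro s hs
    rw [Finset.mem_range] at hs ⊢
    exact reflWord_lt D (etaOf D) hF.facts w.reverse hwr s hs
  · intro s hs
    rw [Finset.mem_range] at hs
    exact reflWord_reverse_cancel' D (etaOf D) hF.facts w hw s hs
  · intro s hs
    rw [Finset.mem_range] at hs
    exact reflWord_reverse_cancel D (etaOf D) hF.facts w hw s hs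
  · intro s hs
    rfl

end Cfsg.Agent.Helper18.BT
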