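import Mathlib
import Cfsg.Agent.Lib.Helper18.BTDefs
import Cfsg.Agent.Lib.Lead.ChevBruhat2
import Cfsg.Agent.Lib.Lead.ChevCells
import Cfsg.Agent.Lib.Lead.ChevFactsAll
import Cfsg.Agent.Lib.Helper6.UniRJ
import Cfsg.Agent.Lib.Helper6.ChevLTriv
import Cfsg.Agent.Lib.BT.BTPOS
import Cfsg.Agent.Lib.BT.BTWCL

/-!
# S2154 (Borel–Tits), piece BT-WJ (helper6 for helper18): a word fixing a dominant level lies in `P_J`.
-/

set_option autoImplicit false
set_option linter.unusedSectionVars false
set_option linter.unusedVariables false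

namespace Cfsg.Agent.Helper18.BT

open Cfsg Cfsg.Lie Cfsg.Agent.Lead.Chev Cfsg.Agent.Helper6.ChevL

variable {F : Type*} [Field F] {D : ChevalleyDatum} (hF : ChevFacts D F) (hL : LvlFacts D)

include hF in
/-- `n_j`, `j ∈ J`, lies in `P_J` (no table facts needed) -/
theorem bt_wj_nGL_mem (J : Set ℕ) (j : ℕ) (hj : j < D.rank) (hjJ : j ∈ J) :
    nGL D hF.xadd (D.simple j) ∈ D.parabolicSubgroup F J := by
  unfold ChevalleyDatum.parabolicSubgroup
  apply Subgroup.mem_sup_right
  apply Subgroup.subset_closure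
  exact ⟨j, hjJ, hj, nGL_val D hF.xadd _⟩

include hF hL in
/-- PIECE BT-WJ [L2]: a word fixing a dominant level lies in `P_J` (induction on `(negSet D w).card`). -/
theorem nWordGL_mem_parabolic_of_fix (hS : CorSize D) (lam : Fin D.rank → ℝ) (hlam : ∀ k, 0 ≤ lam k)
    (w : List ℕ) (hw : ∀ i ∈ w, i < D.rank)
    (hfix : ∀ r < D.nroots, Lof D lam (reflWord D w r) = Lof D lam r) :
    nWordGL D hF.xadd w ∈ D.parabolicSubgroup F (Jof D lam) := by
  induction' h : (negSet D w).card using Nat.strong_induction_on with n ih generalizing w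
  by_cases hpos : ∀ k < D.rank, D.IsPosRoot (reflWord D w (D.simple k))
  · have h1 : ∀ r, D.IsPosRoot r → D.IsPosRoot (reflWord D w r) := fun r hr =>
      reflWord_pos_of_simple D (etaOf D) hF.facts hF.refl hS hF.simple_lt w hw hpos r hr
    have h2 := Cfsg.Agent.Helper6.ChevL.nWordGL_mem_diagonal_of_pos hF w hw h1
    exact borel_le_parabolic _ (diagonal_le_borel D h2)
  · push Not at hpos
    obtain ⟨k, hk, hnp⟩ := hpos
    have hsl : D.simple k < D.nroots := hF.simple_lt k hk
    have hlt := reflWord_lt D (etaOf D) hF.facts w hw _ hsl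
    have hneg : D.IsNegRoot (reflWord D w (D.simple k)) :=
      (hF.sign.pos_or_neg _ hlt).resolve_left hnp
    have hpos' := hF.sign.pos_of_neg _ hneg
    have h2 : 0 ≤ Lof D lam (D.neg (reflWord D w (D.simple k))) := Lof_nonneg hL lam hlam _ hpos'
    rw [Lof_neg hF lam _ hlt, hfix _ hsl] at h2
    obtain ⟨hrpos, h4⟩ := Lof_simple hF hL lam ⟨k, hk⟩
    have hrpos' : (0 : ℝ) < (rch D (D.simple k) k : ℝ) := by exact_mod_cast hrpos
    have hlamk : lam ⟨k, hk⟩ = 0 := by
      have h5 : lam ⟨k, hk⟩ * (rch D (D.simple k) k : ℝ) ≤ 0 := by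
        have := h4
        simp only at this
        linarith
      have h6 := hlam ⟨k, hk⟩
      by_contra hne
      have h7 : 0 < lam ⟨k, hk⟩ := lt_of_le_of_ne h6 (Ne.symm hne)
      have := mul_pos h7 hrpos'
      linarith
    have hkJ : k ∈ Jof D lam := ⟨hk, hlamk⟩
    have hLpk : Lof D lam (D.simple k) = 0 := by
      have := h4
      simp only at this
      rw [this, hlamk, zero_mul]
    have hw' : ∀ i ∈ w ++ [k], i < D.rank := by
      intro i hi
      rcases List.mem_append.1 hi with h' | h'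
      · exact hw i h'
      · rw [List.mem_singleton.1 h']; exact hk
    have hcard := hF.card_negSet_snoc_lt w hw k hk hneg
    have hfix' : ∀ r < D.nroots, Lof D lam (reflWord D (w ++ [k]) r) = Lof D lam r := by
      intro r hr
      rw [reflWord_snoc, hfix _ ((hF.facts k hk).wlt r hr),
        isLvl_reflect hF _ (isLvl_Lof lam) k hk r hr, hLpk, mul_zero, sub_zero]
    have ih' := ih _ (h ▸ hcard) (w ++ [k]) hw' hfix' rfl
    rw [nWordGL_append] at ih'
    have hk' : nWordGL D hF.xadd [k] = nGL D hF.xadd (D.simple k) := by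
      rw [nWordGL_cons, nWordGL_nil, mul_one]
    have hnk := bt_wj_nGL_mem hF (Jof D lam) k hk hkJ
    have e : nWordGL D hF.xadd w =
        (nWordGL D hF.xadd w * nWordGL D hF.xadd [k]) * (nWordGL D hF.xadd [k])⁻¹ := by group
    rw [e]
    exact mul_mem ih' (inv_mem (hk' ▸ hnk))

end Cfsg.Agent.Helper18.BT
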