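import Mathlib
import Cfsg.Agent.Lib.Helper18.BTDefs
import Cfsg.Agent.Lib.Lead.ChevBruhat2
import Cfsg.Agent.Lib.Lead.ChevCells
import Cfsg.Agent.Lib.Lead.ChevFactsAll
import Cfsg.Agent.Lib.Helper6.UniRJ
import Cfsg.Agent.S2326
import Cfsg.Agent.Lib.BT.BTSH
import Cfsg.Agent.Lib.BT.BTADD
import Cfsg.Agent.Lib.BT.BTPOS
import Cfsg.Agent.Lib.BT.BTMONO
import Cfsg.Agent.Lib.BT.BTWJ
import Cfsg.Agent.Lib.BT.BTSTABCore

/-!
# S2154 (Borel–Tits), piece BT-STAB (helper8)

`mem_parabolic_of_sh`: the stabiliser in `G` of the filtration of a dominant level lies in `P_J`.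
The fact that `B` preserves the filtration is proved here under a local name
(`bt_stab_borel_sh`), so that this file does not wait for the piece BT-BOREL.
-/

set_option autoImplicit false
set_option linter.unusedSectionVars false
set_option linter.unusedVariables false

namespace Cfsg.Agent.Helper18.BT

open Cfsg Cfsg.Lie Cfsg.Agent.Lead.Chev Cfsg.Agent.Helper6.ChevL

variable {F : Type*} [Field F] {D : ChevalleyDatum} (hF : ChevFacts D F) (hL : LvlFacts D)

include hF hL in
/-- a positive root element preserves the filtration of a dominant level -/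
theorem bt_stab_gen (lam : Fin D.rank → ℝ) (hlam : ∀ k, 0 ≤ lam k) (r : ℕ) (hr : D.IsPosRoot r) (t : F) :
    Sh (LvR D (Lof D lam)) (LvR D (Lof D lam)) 0 (D.x F r t) := by
  apply sh_of_sub_one (le_refl 0)
  intro a b h
  obtain ⟨k, hk, e⟩ := x_entry_real hF hL (Lof D lam) (isLvl_Lof _) r hr.1 t a b h
  have h1 := Lof_nonneg hL lam hlam r hr
  rw [e]
  have hk' : (0 : ℝ) ≤ (k : ℝ) := by exact_mod_cast Nat.zero_le k
  nlinarith

include hF hL in
/-- `U` preserves the filtration of a dominant level -/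
theorem bt_stab_posUnipotent_sh (lam : Fin D.rank → ℝ) (hlam : ∀ k, 0 ≤ lam k) (u : GL D.Idx F)
    (hu : u ∈ D.posUnipotent F) :
    Sh (LvR D (Lof D lam)) (LvR D (Lof D lam)) 0 (u : Matrix D.Idx D.Idx F) := by
  suffices h : Sh (LvR D (Lof D lam)) (LvR D (Lof D lam)) 0 (u : Matrix D.Idx D.Idx F) ∧
      Sh (LvR D (Lof D lam)) (LvR D (Lof D lam)) 0 ((u⁻¹ : GL D.Idx F) : Matrix D.Idx D.Idx F) from h.1
  unfold ChevalleyDatum.posUnipotent at hu
  induction hu using Subgroup.closure_induction with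
  | mem g hg =>
    obtain ⟨r, t, hr, hg⟩ := hg
    have e1 : g = xGL D hF.xadd r t := by
      apply Units.ext
      rw [hg, xGL_val]
    constructor
    · rw [hg]
      exact bt_stab_gen hF hL lam hlam r hr t
    · rw [e1, xGL_inv, xGL_val]
      exact bt_stab_gen hF hL lam hlam r hr (-t)
  | one =>
    constructor
    · rw [Units.val_one]; exact sh_one _
    · rw [inv_one, Units.val_one]; exact sh_one _
  | mul g h _ _ ihg ihh =>
    constructor
    · rw [Units.val_mul]
      have := sh_mul ihg.1 ihh.1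
      simpa using this
    · rw [mul_inv_rev, Units.val_mul]
      have := sh_mul ihh.2 ihg.2
      simpa using this
  | inv g _ ih =>
    exact ⟨ih.2, by rw [inv_inv]; exact ih.1⟩

include hF hL in
/-- `B` preserves the filtration of a dominant level (local copy of the piece BT-BOREL) -/
theorem bt_stab_borel_sh (lam : Fin D.rank → ℝ) (hlam : ∀ k, 0 ≤ lam k) (b : GL D.Idx F)
    (hb : b ∈ D.borelSubgroup F) :
    Sh (LvR D (Lof D lam)) (LvR D (Lof D lam)) 0 (b : Matrix D.Idx D.Idx F) := by
  obtain ⟨u, hu, h, hh, e⟩ := (hF.mem_borel_iff b).1 hb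
  have h1 := bt_stab_posUnipotent_sh hF hL lam hlam u hu
  obtain ⟨c, _, hc⟩ := exists_Tmat_of_mem D hF.hall h hh
  have h2 : Sh (LvR D (Lof D lam)) (LvR D (Lof D lam)) 0 (h : Matrix D.Idx D.Idx F) := by
    intro a b' hab
    rw [hc] at hab
    unfold Tmat at hab
    by_cases hab' : a = b'
    · rw [hab']; linarith
    · exact absurd (Matrix.diagonal_apply_ne _ hab') hab
  rw [e, Units.val_mul]
  have := sh_mul h1 h2
  simpa using this

include hF hL in
/-- PIECE BT-STAB [L3]: the stabiliser in `G` of the filtration of a dominant level lies in `P_J`. -/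
theorem mem_parabolic_of_sh (hS : CorSize D) (lam : Fin D.rank → ℝ) (hlam : ∀ k, 0 ≤ lam k)
    (y : GL D.Idx F) (hy : y ∈ D.group F)
    (hsh : Sh (LvR D (Lof D lam)) (LvR D (Lof D lam)) 0 (y : Matrix D.Idx D.Idx F)) :
    y ∈ D.parabolicSubgroup F (Jof D lam) :=
  bt_stab_core hF hS lam (fun b hb => bt_stab_borel_sh hF hL lam hlam b hb)
    (fun w hw s h => (nWordGL_entry hF w hw).2 s h)
    (fun w hw hfix => nWordGL_mem_parabolic_of_fix hF hL hS lam hlam w hw hfix) y hy hsh

end Cfsg.Agent.Helper18.BT
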