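import Mathlib
import Cfsg.Agent.Lib.Helper18.BTDefs
import Cfsg.Agent.Lib.Lead.ChevBruhat2
import Cfsg.Agent.Lib.Lead.ChevCells
import Cfsg.Agent.Lib.Lead.ChevFactsAll
import Cfsg.Agent.Lib.Helper6.UniRJ
import Cfsg.Agent.Lib.Helper3.BTRADCore
import Cfsg.Agent.Lib.BT.BTSTAB
import Cfsg.Agent.Lib.BT.BTRADGEN

/-!
# S2154 (Borel–Tits) piece BT-RAD (helper3): an element of `G` raising a dominant level by at least `1`
lies in `U_J`.  Wrapper of `bt_rad_core` (Lib/Helper3/BTRADCore.lean) using BT-STAB and BT-RADGEN.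
-/

set_option autoImplicit false
set_option linter.unusedSectionVars false
set_option linter.unusedVariables false

namespace Cfsg.Agent.Helper18.BT

open Cfsg Cfsg.Lie Cfsg.Agent.Lead.Chev Cfsg.Agent.Helper6.ChevL

theorem bt_rad_sh_of_sub_one {ι : Type*} [Fintype ι] [DecidableEq ι] {K : Type*} [Field K]
    {l : ι → ℝ} {c : ℝ} (hc : 0 ≤ c) {A : Matrix ι ι K} (hA : Sh l l c (A - 1)) :
    Sh l l 0 A := by
  intro a b hab
  by_cases h : (A - 1) a b = 0
  · have hne : a = b := by
      by_contra hne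
      apply hab
      have := h
      rw [Matrix.sub_apply, Matrix.one_apply_ne hne, sub_zero] at this
      exact this
    rw [hne, add_zero]
  · have := hA a b h
    linarith

variable {F : Type*} [Field F] {D : ChevalleyDatum} (hF : ChevFacts D F) (hL : LvlFacts D)

include hF hL in
/-- PIECE BT-RAD [L4]: an element of `G` raising a dominant level by at least `1` lies in `U_J`. -/
theorem mem_radical_of_sh (hP : ParFacts D) (hC : CommJ D) (hS : CorSize D)
    (lam : Fin D.rank → ℝ) (hlam : ∀ k, 0 ≤ lam k) (y : GL D.Idx F) (hy : y ∈ D.group F)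
    (hsh : Sh (LvR D (Lof D lam)) (LvR D (Lof D lam)) 1 ((y : Matrix D.Idx D.Idx F) - 1)) :
    y ∈ D.unipotentRadical F (Jof D lam) :=
  bt_rad_core hF hP hC lam y
    (mem_parabolic_of_sh hF hL hS lam hlam y hy (bt_rad_sh_of_sub_one zero_le_one hsh))
    (radical_sr_levi_kp hF hL lam hlam) hsh

end Cfsg.Agent.Helper18.BT
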