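import Mathlib
import Cfsg.Agent.Lib.Helper18.BTDefs

/-!
# S2154 (Borel–Tits), piece BT-RK (helper23): strictly raising / keeping matrices for real levels
(real copies of helper6's `Raises.mul_sub_one`, `Keeps.mul`, `raiseSub_inf_keepSub`).
-/

set_option autoImplicit false
set_option linter.unusedSectionVars false
set_option linter.unusedVariables false

namespace Cfsg.Agent.Helper18.BT

open Cfsg Cfsg.Lie Cfsg.Agent.Lead.Chev Cfsg.Agent.Helper6.ChevL

section abstract

variable {ι : Type*} [Fintype ι] [DecidableEq ι] {K : Type*} [Field K]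

theorem bt_rk_exists_of_mul_ne_zero (A B : Matrix ι ι K) (a c : ι) (h : (A * B) a c ≠ 0) :
    ∃ b, A a b ≠ 0 ∧ B b c ≠ 0 := by
  rw [Matrix.mul_apply] at h
  obtain ⟨b, -, hb⟩ := Finset.exists_ne_zero_of_sum_ne_zero h
  exact ⟨b, left_ne_zero_of_mul hb, right_ne_zero_of_mul hb⟩

theorem bt_rk_sr_add {l : ι → ℝ} {A B : Matrix ι ι K} (hA : SR l A) (hB : SR l B) :
    SR l (A + B) := by
  intro a b h
  rw [Matrix.add_apply] at h
  by_cases h1 : A a b = 0
  · rw [h1, zero_add] at h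
    exact hB a b h
  · exact hA a b h1

theorem bt_rk_sr_mul {l : ι → ℝ} {A B : Matrix ι ι K} (hA : SR l A) (hB : SR l B) :
    SR l (A * B) := by
  intro a c h
  obtain ⟨b, h1, h2⟩ := bt_rk_exists_of_mul_ne_zero A B a c h
  exact lt_trans (hB b c h2) (hA a b h1)

/-- PIECE BT-RK [L1] (1/3): as helper6's `Raises.mul_sub_one`, real levels. -/
theorem sr_mul_sub_one {l : ι → ℝ} {A B : Matrix ι ι K} (hA : SR l (A - 1)) (hB : SR l (B - 1)) :
    SR l (A * B - 1) := by
  have e : A * B - 1 = (A - 1) + (B - 1) + (A - 1) * (B - 1) := by noncomm_ring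
  rw [e]
  exact bt_rk_sr_add (bt_rk_sr_add hA hB) (bt_rk_sr_mul hA hB)

/-- PIECE BT-RK (2/3). -/
theorem kp_mul {l : ι → ℝ} {A B : Matrix ι ι K} (hA : KP l A) (hB : KP l B) : KP l (A * B) := by
  intro a c h
  obtain ⟨b, h1, h2⟩ := bt_rk_exists_of_mul_ne_zero A B a c h
  exact (hA a b h1).trans (hB b c h2)

/-- PIECE BT-RK (3/3): as helper6's `raiseSub_inf_keepSub`. -/
theorem eq_one_of_sr_kp {l : ι → ℝ} (g : GL ι K) (h1 : SR l ((g : Matrix ι ι K) - 1))
    (h2 : KP l (g : Matrix ι ι K)) : g = 1 := by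
  apply Units.ext
  rw [Units.val_one]
  ext a b
  by_contra hne
  have h3 : ((g : Matrix ι ι K) - 1) a b ≠ 0 := by
    rw [Matrix.sub_apply, sub_ne_zero]
    exact hne
  have h4 := h1 a b h3
  by_cases hab : a = b
  · rw [hab] at h4
    exact lt_irrefl _ h4
  · have h5 : (g : Matrix ι ι K) a b ≠ 0 := by
      rw [Matrix.sub_apply, Matrix.one_apply, if_neg hab, sub_zero] at h3
      exact h3
    have h6 := h2 a b h5
    rw [h6] at h4
    exact lt_irrefl _ h4

end abstract

end Cfsg.Agent.Helper18.BT
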