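import Mathlib
import Cfsg.Agent.Lib.Helper18.BTDefs
import Cfsg.Agent.Lib.Lead.ChevBruhat2
import Cfsg.Agent.Lib.Lead.ChevCells
import Cfsg.Agent.Lib.Lead.ChevFactsAll
import Cfsg.Agent.Lib.Helper6.UniRJ
import Cfsg.Agent.Lib.BT.BTSH
import Cfsg.Agent.Lib.BT.BTMONO
import Cfsg.Agent.Lib.BT.BTWCL
import Cfsg.Agent.Lib.BT.BTDOM
import Cfsg.Agent.Lib.BT.BTDOMREP
import Cfsg.Agent.Lib.BT.BTPOS
import Cfsg.Agent.Lib.BT.BTBOREL

/-!
# S2154 piece BT-UNIQ: the filtrations of two minimal feasible pairs coincide (strict convexity)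
-/

set_option autoImplicit false
set_option linter.unusedSectionVars false
set_option linter.unusedVariables false

namespace Cfsg.Agent.Helper18.BT

open Cfsg Cfsg.Lie Cfsg.Agent.Lead.Chev Cfsg.Agent.Helper6.ChevL

variable {F : Type*} [Field F] {D : ChevalleyDatum}

theorem bt_uniq_LvR_avg (L L'' : ℕ → ℝ) :
    LvR D (fun s => (L s + L'' s) / 2) = fun a => (LvR D L a + LvR D L'' a) / 2 := by
  funext a
  rcases a with i | s
  · simp [LvR]
  · simp [LvR]

theorem bt_uniq_LvR_congr (L L' : ℕ → ℝ) (h : ∀ s < D.nroots, L s = L' s) : LvR D L = LvR D L' := by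
  funext a
  rcases a with i | s
  · rfl
  · exact h s.val s.2

theorem bt_uniq_nrm_avg (L L'' : ℕ → ℝ) :
    nrm D (fun s => (L s + L'' s) / 2) =
      (nrm D L + nrm D L'') / 2 - (∑ s ∈ Finset.range D.nroots, (L s - L'' s) ^ 2) / 4 := by
  unfold nrm
  rw [← Finset.sum_add_distrib, Finset.sum_div, Finset.sum_div, ← Finset.sum_sub_distrib]
  apply Finset.sum_congr rfl
  intro s _
  ring

variable (hF : ChevFacts D F) (hL : LvlFacts D)

include hF hL in
theorem sh_of_isMin (hD : D ∈ [chevG2, chevB2, chevD4, chevF4, chevE6, chevE7, chevE8])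
    (R : Subgroup (GL D.Idx F)) (g g' : GL D.Idx F) (lam lam' : Fin D.rank → ℝ)
    (h : IsMin D R g lam) (h' : IsMin D R g' lam') :
    Sh (LvR D (Lof D lam)) (LvR D (Lof D lam')) 0 ((g⁻¹ * g' : GL D.Idx F) : Matrix D.Idx D.Idx F) := by
  obtain ⟨hg, hlam, hfeas, hmin⟩ := h
  obtain ⟨hg', hlam', hfeas', hmin'⟩ := h'
  have hS := corSize_of_mem D hD
  have hfa := hF.facts
  -- Bruhat
  obtain ⟨b, hb, w, hw, u, hu, e⟩ := hF.exists_bruhat hS (g⁻¹ * g') (mul_mem (inv_mem hg) hg')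
  have huB : u ∈ D.borelSubgroup F := posUnipotent_le_borel D (hF.negPart_le_posUnipotent w hu)
  have hwr : ∀ i ∈ w.reverse, i < D.rank := fun i hi => hw i (List.mem_reverse.1 hi)
  set L := Lof D lam with hLdef
  set L' := Lof D lam' with hL'def
  set L'' : ℕ → ℝ := fun s => L' (reflWord D w.reverse s) with hL''def
  have hL''w : ∀ s < D.nroots, L'' (reflWord D w s) = L' s := by
    intro s hs
    simp only [hL''def]
    rw [reflWord_reverse_cancel' D (etaOf D) hfa w hw s hs]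
  -- the transport facts
  have hbsh := borel_sh hF hL lam hlam b hb
  have hbish := borel_sh hF hL lam hlam b⁻¹ (inv_mem hb)
  have hush := borel_sh hF hL lam' hlam' u huB
  have huish := borel_sh hF hL lam' hlam' u⁻¹ (inv_mem huB)
  obtain ⟨hn1, hn2⟩ := nWordGL_sh hF w hw L' L'' hL''w
  -- feasibility of (g b) for L and L''
  have hf1 : Feas D R (g * b) L := feas_mul R g b L L hbish hbsh hfeas
  have hf2 : Feas D R (g' * u⁻¹) L' := by
    refine feas_mul R g' u⁻¹ L' L' ?_ huish hfeas'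
    rw [inv_inv]; exact hush
  have hgb : g' * u⁻¹ = g * b * nWordGL D hF.xadd w := by
    have : g' = g * (b * nWordGL D hF.xadd w * u) := by rw [← e]; group
    rw [this]; group
  rw [hgb] at hf2
  have hf3 : Feas D R (g * b * nWordGL D hF.xadd w * (nWordGL D hF.xadd w)⁻¹) L'' := by
    refine feas_mul R _ _ L' L'' ?_ hn2 hf2
    rw [inv_inv]; exact hn1
  have e3 : g * b * nWordGL D hF.xadd w * (nWordGL D hF.xadd w)⁻¹ = g * b := by group
  rw [e3] at hf3
  -- the average
  set M : ℕ → ℝ := fun s => (L s + L'' s) / 2 with hMdef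
  have hfM : Feas D R (g * b) M := by
    intro x hx
    have h1 := hf1 x hx
    have h2 := hf3 x hx
    have := sh_avg h1 h2
    rw [hMdef, bt_uniq_LvR_avg]
    exact this
  have hLvL : IsLvl D L := isLvl_Lof lam
  have hLvL' : IsLvl D L' := isLvl_Lof lam'
  have hLvL'' : IsLvl D L'' := isLvl_reflWord hF L' hLvL' w.reverse hwr
  have hLvM : IsLvl D M := isLvl_avg L L'' hLvL hLvL''
  -- dominant conjugate of the average
  obtain ⟨w2, hw2, hdom⟩ := exists_dominant_conj hF M hLvM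
  set M' : ℕ → ℝ := fun s => M (reflWord D w2 s) with hM'def
  have hLvM' : IsLvl D M' := isLvl_reflWord hF M hLvM w2 hw2
  obtain ⟨lam3, hlam3, hM'eq⟩ := exists_lam_of_dominant hF hD M' hLvM' hdom
  obtain ⟨hm1, hm2⟩ := nWordGL_sh hF w2 hw2 M' M (fun s _ => rfl)
  have hfM' : Feas D R (g * b * nWordGL D hF.xadd w2) M' := feas_mul R _ _ M M' hm2 hm1 hfM
  have hf3' : Feas D R (g * b * nWordGL D hF.xadd w2) (Lof D lam3) :=
    feas_congr R _ M' _ hM'eq hfM'
  have hgG : g * b * nWordGL D hF.xadd w2 ∈ D.group F :=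
    mul_mem (mul_mem hg (hF.borel_le_group hb)) (nWordGL_mem_group D hF.xadd w2)
  -- minimality
  have hle : nrm D L ≤ nrm D (Lof D lam3) := hmin _ hgG lam3 hlam3 hf3'
  have hn3 : nrm D (Lof D lam3) = nrm D M := by
    rw [← nrm_congr M' (Lof D lam3) hM'eq, hM'def, nrm_reflWord hF M w2 hw2]
  have hLL' : nrm D L = nrm D L' :=
    le_antisymm (hmin g' hg' lam' hlam' hfeas') (hmin' g hg lam hlam hfeas)
  have hn'' : nrm D L'' = nrm D L' := nrm_reflWord hF L' w.reverse hwr
  have hsum : ∑ s ∈ Finset.range D.nroots, (L s - L'' s) ^ 2 ≤ 0 := by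
    have := bt_uniq_nrm_avg (D := D) L L''
    rw [hn3, this, hn'', ← hLL'] at hle
    linarith
  have heq : ∀ s < D.nroots, L s = L'' s := by
    intro s hs
    have hnn : ∀ i ∈ Finset.range D.nroots, 0 ≤ (L i - L'' i) ^ 2 := fun i _ => sq_nonneg _
    have h0 := (Finset.sum_eq_zero_iff_of_nonneg hnn).1 (le_antisymm hsum (Finset.sum_nonneg hnn)) s
      (Finset.mem_range.2 hs)
    have := pow_eq_zero_iff (n := 2) (by norm_num) |>.1 h0
    linarith
  -- conclusion
  have hLv : LvR D L'' = LvR D L := (bt_uniq_LvR_congr L L'' heq).symm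
  rw [hLv] at hn1
  rw [e, Units.val_mul, Units.val_mul]
  have h1 := sh_mul hbsh hn1
  have h2 := sh_mul h1 hush
  simpa using h2

end Cfsg.Agent.Helper18.BT
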